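import Cfsg.Agent.U4F.Defs
import Cfsg.Agent.FK.Uniq
import Cfsg.Agent.U42F.Main
import Cfsg.Agent.U42F.Iso

/-! Project U4F: the case `q = 2`.  See `notes/U42F.md`. -/

set_option autoImplicit false
set_option linter.unusedSectionVars false

namespace Cfsg.Agent.U4F

open U5F (Bar)
open FK

theorem q2 {K : Type*} [Field K] [Bar K] {G : Type*} [Group G] [Finite G] {u : US K →* G} (hq : Bar.q K = 2)
    (h : Sat 2 u) {Ω : Type*} [Group Ω] {S : Subgroup Ω} [Finite S] {F : FusionSystem S} {j : Ω → G} {k : G → Ω}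
    (i : H92.FIso F (groupFusionSystem u.range) j k) (hc : F.core = ⊥) : F.IsRealizable 2 := by
  let _ := Bar.fin (K := K)
  have h4 : ((2 : K) ^ 2) = 0 := by
    have := FiniteField.cast_card_eq_zero K
    rw [Bar.card, hq] at this
    exact_mod_cast this
  have : CharP K 2 := CharTwo.of_one_ne_zero_of_two_eq_zero one_ne_zero (pow_eq_zero_iff two_ne_zero |>.1 h4)
  obtain ⟨ε⟩ := U42F.iso hq
  have e : (u.comp ε.toMonoidHom).range = u.range := by
    rw [MonoidHom.range_comp, MonoidHom.range_eq_top.2 ε.surjective, ← MonoidHom.range_eq_map]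
  rw [← e] at i
  exact U42F.main ⟨DIH.PM.isPGroup, h.inj.comp ε.injective, e ▸ h.sat⟩ i hc

end Cfsg.Agent.U4F
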