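import Cfsg.Agent.U4F.Main
import Cfsg.Agent.U4T.Main

/-! Project U4F: the case `q = 3`.  See `notes/U4F.md`, `notes/U4T.md`. -/

set_option autoImplicit false
set_option linter.unusedSectionVars false

namespace Cfsg.Agent.U4F

open U5F (Bar σ σσ card_K σ_apply)
open US FK
open H9 (F9)

/-- transport along an isomorphism of fields -/
def tr {K K' : Type*} [Field K] [Bar K] [Field K'] [Bar K'] (φ : K ≃+* K') (h : ∀ x, φ (σ x) = σ (φ x)) :
    US K ≃* US K' where
  toFun x := ⟨φ x.a, φ x.b, φ x.c, φ x.d, by rw [← h, x.hb], by rw [← h, x.hd]⟩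
  invFun x := ⟨φ.symm x.a, φ.symm x.b, φ.symm x.c, φ.symm x.d,
    φ.injective (by rw [h]; simp), φ.injective (by rw [h]; simp)⟩
  left_inv x := by ext <;> simp
  right_inv x := by ext <;> simp
  map_mul' x y := by ext <;> simp [h]

instance : CharP F9 3 := by
  have h : (3 : F9) = 0 := by decide
  exact (CharP.charP_iff_prime_eq_zero Nat.prime_three).2 (by exact_mod_cast h)

theorem q3' {G : Type*} [Group G] [Finite G] {v : U4T.S →* G} (h : Sat 3 v) {Ω : Type*} [Group Ω] {S : Subgroup Ω}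
    [Finite S] {F : FusionSystem S} {j : Ω → G} {k : G → Ω} (i : H92.FIso F (groupFusionSystem v.range) j k) :
    F.IsRealizable 3 := by
  have hq : 2 < Bar.q F9 := by decide
  refine red (two_of hq h) i fun v n ⟨f, hf, kf⟩ i => ?_
  have tt : In v ⊤ U4T.tt := by
    have := n.tor (U4T.ze * U4T.ii) (by decide)
    rwa [show (U4T.ze * U4T.ii) ^ 2 = U4T.ii by decide,
      inv_eq_of_mul_eq_one_right (show U4T.ze * U4T.ii * U4T.ze = 1 by decide)] at this
  obtain ⟨G', _, _, u', inj, ho, hm, h0, hQ⟩ := U4T.q3 ⟨n.cx.two, n.cx.std, tt, f, hf, fun k => kf (py_of_ext k)⟩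
  have k4 : IsPGroup 3 u'.range := (pg_US 3).of_equiv (MonoidHom.ofInjective inj)
  have t' : Two 3 u' sQ sJ := two_of hq ⟨pg_US 3, inj, H92.saturated_group (k4.toSylow ho)⟩
  refine realizable_of i n.cx.two.sat.inj inj (pg_US 3) (fun X f => ⟨fun hf => ?_, fun hf => ?_⟩) ho
  · exact n.cx.two.uniq (fun F hF => ((h0 F).1 hF).ind) (fun F hF => ((hQ F).1 hF).ind)
      (fun F hF => uniqJ n.cx.two n.mu hm (fun F hF => ((h0 F).1 hF).ind) hF) hf
  · exact t'.uniq (fun F hF => ((h0 F).2 hF).ind) (fun F hF => ((hQ F).2 hF).ind)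
      (fun F hF => uniqJ t' hm n.mu (fun F hF => ((h0 F).2 hF).ind) hF) hf

theorem q3 {K : Type*} [Field K] [Bar K] {G : Type*} [Group G] [Finite G] {u : US K →* G} (hq : Bar.q K = 3)
    (h : Sat 3 u) {Ω : Type*} [Group Ω] {S : Subgroup Ω} [Finite S] {F : FusionSystem S} {j : Ω → G} {k : G → Ω}
    (i : H92.FIso F (groupFusionSystem u.range) j k) : F.IsRealizable 3 := by
  let _ := Bar.fin (K := K)
  let _ := H9.fintypeF9
  let φ : F9 ≃+* K := FiniteField.ringEquivOfCardEq (by rw [Bar.card (K := K), hq]; exact H9.card_F9)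
  let β := tr φ fun x => by rw [σ_apply, σ_apply, hq, map_pow]; rfl
  have e : (u.comp β.toMonoidHom).range = u.range := by
    rw [MonoidHom.range_comp, MonoidHom.range_eq_top.2 β.surjective, ← MonoidHom.range_eq_map]
  exact q3' (v := u.comp β.toMonoidHom) ⟨pg_US 3, h.inj.comp β.injective, e ▸ h.sat⟩ (e ▸ i)

end Cfsg.Agent.U4F
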