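import Cfsg.Agent.U4F.AuD
import Cfsg.Agent.FK.Uniq
import Cfsg.Agent.H62.NoFlag

/-! Project U4F: AuS.  See `notes/U4F.md`. -/

set_option autoImplicit false
set_option linter.unusedSectionVars false

namespace Cfsg.Agent.U4F

open U5F (Bar σ σσ card_K card_fix exists_q map_σ TF θT)
open US FK
open RFS (Au)
open scoped commutatorElement

variable {K : Type*} [Field K] [Bar K] {G : Type*} [Group G] [Finite G] {p : ℕ} [Fact p.Prime] [CharP K p]
  {u : US K →* G} {f g F : US K → US K} {E : Subgroup (US K)} {L : Subgroup G}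

namespace AuS

theorem Y_le {x : US K} (hx : x ∈ (sY : Subgroup (US K))) : x ∈ commutator (US K) := by
  have hm : ⁅Xa x.c, Xb (1 : K) (map_one _)⁆ ∈ commutator (US K) :=
    Subgroup.commutator_mem_commutator trivial trivial
  obtain ⟨y, -, e⟩ := exists_comm_Y (x := Xa (1 : K)) (z := ⁅Xa x.c, Xb (1 : K) (map_one _)⁆⁻¹ * x) (by simp)
    (by simp [comm_a, comm_b, comm_c, hx.1, hx.2])
  exact (mul_mem_cancel_left (inv_mem hm)).1 (e ▸ Subgroup.commutator_mem_commutator trivial trivial)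

theorem ker {k : TF K} (h : ∀ x, (act k x).a = x.a) : k.left.1 = 1 ∧ k.right = 1 := by
  have h1 : (k.left.1 : K) = 1 := by simpa [act_apply] using h (Xa 1)
  exact ⟨Units.ext h1, RingEquiv.ext fun a => by simpa [act_apply, h1] using h (Xa a)⟩

theorem act_one {k : TF K} (h : ∀ x, (act k x).a = x.a ∧ (act k x).b = x.b) : act k = 1 := by
  obtain ⟨h1, h2⟩ := ker fun x => (h x).1
  have h3 : (k.left.2 : K) * σ (k.left.2 : K) = 1 := by simpa [act_apply] using (h (Xb 1 (map_one _))).2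
  refine MulEquiv.ext fun x => ?_
  rw [act_apply, h1, h2]
  ext <;> simp [h3]

end AuS

open AuS

theorem aut_p (α : MulAut (US K)) (h : ∀ x, (α x).a = x.a ∧ (α x).b = x.b) : ∃ j, α ^ p ^ j = 1 :=
  H62.pElt_of_frattini (pg_US p) fun x =>
    H3.commutator_le_frattini (pg_US p) (Y_le (by simp [h x]))

theorem exists_std (h : Sat p u) : ∃ β : US K ≃* US K, Std (u.comp β.toMonoidHom) := by
  let A : Subgroup (MulAut (US K)) :=
    { carrier := {α | ∀ x, (α x).a = x.a ∧ (α x).b = x.b}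
      one_mem' := fun _ => ⟨rfl, rfl⟩
      mul_mem' := fun {α β} ha hb x => ⟨(ha (β x)).1.trans (hb x).1, (ha (β x)).2.trans (hb x).2⟩
      inv_mem' := fun {α} ha x => by
        have := ha (α⁻¹ x)
        rw [MulAut.apply_inv_self] at this
        exact ⟨this.1.symm, this.2.symm⟩ }
  have : A.Normal := ⟨fun α ha β x => by
    obtain ⟨r, t, φ, -, -, e⟩ := aut_dec (Au.equiv β)
    have := e (β⁻¹ x)
    rw [MulAut.apply_inv_self] at this
    rw [MulAut.mul_apply, MulAut.mul_apply, (e _).1, (e _).2, (ha _).1, (ha _).2]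
    exact ⟨this.1.symm, this.2.symm⟩⟩
  have : Finite (MulAut (US K)) := Finite.of_injective (fun α => (α : US K → US K)) DFunLike.coe_injective
  obtain ⟨β, hβ⟩ := h.exists_std (St := (act : TF K →* MulAut (US K)).range) fun X hX =>
    (conj_into (A := A) (fun α => (aut_p α.1 α.2).imp fun _ e => Subtype.ext e)
      (eq_bot_iff.2 (by
        rintro _ ⟨ha, k, rfl⟩
        rw [act_one ha]
        exact one_mem _)) hX fun x _ => by
      obtain ⟨r, t, φ, hr, ht, e⟩ := aut_dec (Au.equiv x)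
      refine ⟨act ⟨(Units.mk0 r hr, Units.mk0 t ht), φ⟩ * x⁻¹, fun y => ?_, _, (inv_mul_cancel_right _ _).symm⟩
      have := e (x⁻¹ y)
      rw [MulAut.apply_inv_self] at this
      exact ⟨this.1.symm, this.2.symm⟩).imp fun _ k => k.2
  refine ⟨β, fun F hF => ?_⟩
  obtain ⟨s, _, ⟨k, rfl⟩, e⟩ := hβ F hF
  exact ⟨s, _, _, k.right, k.left.1.ne_zero, k.left.2.ne_zero, e⟩

theorem not_dvd_X (h : Sat p u) : ¬ p ∣ Nat.card ((Gam u).comap (act : TF K →* MulAut (US K))) := by
  have : Finite (RingAut K) := Finite.of_injective (fun α => (α : K → K)) DFunLike.coe_injective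
  have : Finite (TF K) := Finite.of_injective (fun k => (k.left, k.right)) fun _ _ e =>
    SemidirectProduct.ext (congrArg Prod.fst e) (congrArg Prod.snd e)
  intro hd
  obtain ⟨x, hx⟩ := exists_prime_orderOf_dvd_card' p hd
  obtain ⟨k, hk, s, e⟩ := Uniq.cop_inn h (α := act x.1) x.2
  obtain ⟨-, h2⟩ := ker (k := x.1 ^ k) fun y => by
    rw [map_pow, ← e]
    exact cj_a s y
  have h3 : (x.1 ^ k) ^ Nat.card Kˣ = 1 := by
    rw [← SemidirectProduct.inl_left_mul_inr_right (x.1 ^ k), h2, map_one, mul_one, ← map_pow,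
      show (x.1 ^ k).left ^ Nat.card Kˣ = 1 from Prod.ext pow_card_eq_one' pow_card_eq_one', map_one]
  rw [← pow_mul, ← orderOf_dvd_iff_pow_eq_one, Subgroup.orderOf_coe, hx] at h3
  have h4 := hk.symm.dvd_of_dvd_mul_left h3
  obtain ⟨n, hn, e⟩ := exists_q (K := K) p
  rw [Nat.card_units, card_K, e, ← pow_mul] at h4
  have h5 := (Nat.dvd_sub_iff_right (Nat.one_le_pow _ _ (Fact.out : p.Prime).pos)
    (dvd_pow_self p (by omega : n * 2 ≠ 0))).1 h4
  exact (Fact.out : p.Prime).not_dvd_one h5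

end Cfsg.Agent.U4F
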