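import Cfsg.Agent.U4F.Defs
import Mathlib.FieldTheory.ChevalleyWarning

/-! Project U4F: CW.  See `notes/U4F.md`. -/

set_option autoImplicit false
set_option linter.unusedSectionVars false

namespace Cfsg.Agent.U4F

open U5F (Bar σ σσ card_K card_fix exists_q map_σ TF θT)
open US FK
open RFS (Au)
open scoped commutatorElement

variable {A W : Type*} [AddCommGroup A] [AddCommGroup W] [Finite A] [Finite W] {p : ℕ} [Fact p.Prime]

namespace CW

open MvPolynomial

variable [Module (ZMod p) A] [Module (ZMod p) W]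

theorem sm1 (β : A →+ A →+ W) (c : ZMod p) (a b : A) : β (c • a) b = c • β a b :=
  ZMod.map_smul (β.flip b) c a

theorem sm2 (l : A →+ W) (c : ZMod p) (a : A) : l (c • a) = c • l a := ZMod.map_smul l c a

theorem core (p : ℕ) [Fact p.Prime] [Module (ZMod p) A] [Module (ZMod p) W] (β : A →+ A →+ W) (l : A →+ W) (hc : Nat.card W ^ 2 < Nat.card A) :
    ∃ a, a ≠ 0 ∧ β a a + l a = 0 := by
  classical
  have hp : p.Prime := Fact.out
  let bA := Module.finBasis (ZMod p) A
  let bW := Module.finBasis (ZMod p) W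
  rw [Module.natCard_eq_pow_finrank (K := ZMod p) (V := A), Module.natCard_eq_pow_finrank (K := ZMod p) (V := W),
    Nat.card_zmod, ← pow_mul, Nat.pow_lt_pow_iff_right hp.one_lt] at hc
  let f : Fin (Module.finrank (ZMod p) W) → MvPolynomial (Fin (Module.finrank (ZMod p) A)) (ZMod p) := fun i =>
    ∑ j, ∑ k, C (bW.repr (β (bA j) (bA k)) i) * (X j * X k) + ∑ j, C (bW.repr (l (bA j)) i) * X j
  have dg : ∀ i, (f i).totalDegree ≤ 2 := fun i => by
    refine (totalDegree_add _ _).trans (max_le ?_ ?_)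
    · refine totalDegree_finsetSum_le fun j _ => totalDegree_finsetSum_le fun k _ => ?_
      refine (totalDegree_mul _ _).trans ?_
      rw [totalDegree_C, zero_add]
      exact (totalDegree_mul _ _).trans (by rw [totalDegree_X, totalDegree_X])
    · refine totalDegree_finsetSum_le fun j _ => (totalDegree_mul _ _).trans ?_
      rw [totalDegree_C, totalDegree_X]
      omega
  have ev : ∀ x i, eval x (f i) = bW.repr (β (∑ j, x j • bA j) (∑ j, x j • bA j) + l (∑ j, x j • bA j)) i := by
    intro x i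
    have e1 : β (∑ j, x j • bA j) (∑ j, x j • bA j) = ∑ j, ∑ k, (x j * x k) • β (bA j) (bA k) := by
      rw [map_sum β, AddMonoidHom.finsetSum_apply]
      refine Finset.sum_congr rfl fun j _ => ?_
      rw [sm1, map_sum, Finset.smul_sum]
      exact Finset.sum_congr rfl fun k _ => by rw [sm2, mul_smul]
    have e2 : l (∑ j, x j • bA j) = ∑ j, x j • l (bA j) := by
      rw [map_sum]
      exact Finset.sum_congr rfl fun k _ => sm2 _ _ _
    rw [e1, e2]
    simp [f, mul_comm]
  have dv := char_dvd_card_solutions_of_fintype_sum_lt (K := ZMod p) p (f := f) (by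
    refine (Finset.sum_le_sum fun i _ => dg i).trans_lt ?_
    simpa using hc)
  have z : ∀ i, eval (0 : Fin (Module.finrank (ZMod p) A) → ZMod p) (f i) = 0 := fun i => by rw [ev]; simp
  have two := hp.one_lt.trans_le (Nat.le_of_dvd ((@Fintype.card_pos_iff _ (_)).2 ⟨⟨0, z⟩⟩) dv)
  obtain ⟨⟨x, hx⟩, ne⟩ := @Fintype.exists_ne_of_one_lt_card _ (_) two ⟨0, z⟩
  refine ⟨∑ j, x j • bA j, fun e => ne (Subtype.ext (funext fun j => ?_)), ?_⟩
  · exact Fintype.linearIndependent_iff.1 bA.linearIndependent x e j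
  · refine bW.repr.injective (Finsupp.ext fun i => ?_)
    rw [← ev, hx, map_zero, Finsupp.zero_apply]

/-- the homogenised form -/
def hom (β : A →+ A →+ W) (l : A →+ W) (t : W) : A × ZMod p →+ A × ZMod p →+ W :=
  AddMonoidHom.mk' (fun x => AddMonoidHom.mk' (fun y => β x.1 y.1 + x.2 • l y.1 + (x.2 * y.2) • t) fun y z => by
      simp only [Prod.fst_add, Prod.snd_add, map_add, mul_add, add_smul, smul_add]
      abel) fun x y => AddMonoidHom.ext fun z => by
    simp only [Prod.fst_add, Prod.snd_add, map_add, add_mul, add_smul, AddMonoidHom.add_apply,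
      AddMonoidHom.mk'_apply]
    abel

theorem core2 (p : ℕ) [Fact p.Prime] [Module (ZMod p) A] [Module (ZMod p) W] (β : A →+ A →+ W) (l : A →+ W) (t : W) (hc : Nat.card W ^ 2 ≤ Nat.card A)
    (hβ : ∀ a, β a a = 0 → a = 0) : ∃ a, β a a + l a + t = 0 := by
  have hp : p.Prime := Fact.out
  obtain ⟨⟨a, w⟩, ne, e⟩ := core p (hom (p := p) β l t) 0 (by
    rw [Nat.card_prod, Nat.card_zmod]
    exact hc.trans_lt ((Nat.lt_mul_iff_one_lt_right Nat.card_pos).2 hp.one_lt))
  have e' : β a a + w • l a + (w * w) • t = 0 := by simpa [hom] using e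
  have w0 : w ≠ 0 := fun h => by
    subst h
    rw [zero_smul, zero_mul, zero_smul, add_zero, add_zero] at e'
    exact ne (Prod.ext (hβ a e') rfl)
  refine ⟨w⁻¹ • a, ?_⟩
  have k := congrArg ((w⁻¹ * w⁻¹) • ·) e'
  simp only [smul_add, smul_smul, smul_zero] at k
  rw [show w⁻¹ * w⁻¹ * w = w⁻¹ by field_simp, show w⁻¹ * w⁻¹ * (w * w) = 1 by field_simp, one_smul] at k
  rw [sm1, sm2, sm2, smul_smul, k]

end CW

/-- Chevalley-Warning for quadratic maps of elementary abelian groups -/
theorem cw1 (hA : ∀ a : A, p • a = 0) (hW : ∀ w : W, p • w = 0) (β : A →+ A →+ W) (l : A →+ W)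
    (hc : Nat.card W ^ 2 < Nat.card A) : ∃ a, a ≠ 0 ∧ β a a + l a = 0 := by
  letI := AddCommGroup.zmodModule hA
  letI := AddCommGroup.zmodModule hW
  exact CW.core p β l hc

theorem cw2 (hA : ∀ a : A, p • a = 0) (hW : ∀ w : W, p • w = 0) (β : A →+ A →+ W) (l : A →+ W) (t : W)
    (hc : Nat.card W ^ 2 ≤ Nat.card A) (hβ : ∀ a, β a a = 0 → a = 0) : ∃ a, β a a + l a + t = 0 := by
  letI := AddCommGroup.zmodModule hA
  letI := AddCommGroup.zmodModule hW
  exact CW.core2 p β l t hc hβ

end Cfsg.Agent.U4F
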