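import Cfsg.Agent.U4F.Chr

/-! Project U4F: EJ.  See `notes/U4F.md`. -/

set_option autoImplicit false
set_option linter.unusedSectionVars false

namespace Cfsg.Agent.U4F

open U5F (Bar σ σσ card_K card_fix exists_q map_σ TF θT)
open US FK
open RFS (Au)
open scoped commutatorElement

variable {K : Type*} [Field K] [Bar K] {G : Type*} [Group G] [Finite G] {p : ℕ} [Fact p.Prime] [CharP K p]
  {u : US K →* G} {f g F : US K → US K} {E : Subgroup (US K)} {L : Subgroup G}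

private theorem EJ.key (h : Pr p u E L) (hJ : sJ ≤ E) {e₀ : US K} (he : e₀ ∈ E) (h0 : e₀.a ≠ 0)
    (hc : ∀ c : K, (∀ e ∈ E, e.a * σ c + c * σ e.a = 0) → ∀ e ∈ E, ∀ l, σ l = l → c = l * e.a → c = 0) : False := by
  have hV : ∀ v ∈ Om p E ⊥, ∀ e ∈ E, e.a * σ v.c + v.c * σ e.a = 0 := fun v hv e k => by
    have hv' := (U5F.mem_V.1 hv).2.2
    have ha : v.a = 0 := cz_Y fun y hy => (hv' y (hJ hy.1)).symm
    have hb : v.b = 0 := by
      have := (comm_iff.1 (hv' e₀ he)).1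
      rw [ha, zero_mul] at this
      exact (mul_eq_zero.1 this).resolve_left h0
    have := (comm_iff.1 (hv' e k)).2
    simpa [ha, hb] using this
  refine top h he h0 (h.iv_cz h.iv_top h.iv_top (ivV h) fun x => ⟨fun hx => ⟨hJ hx.1, fun y _ =>
    Z_le_V h (c_Y hx y)⟩, fun ⟨hx, k⟩ => ?_⟩)
  have ha : x.a = 0 := by
    have e : ⁅x, Xb (1 : K) (map_one _)⁆.c = x.a := by simp [comm_c]
    have := hc _ (hV _ (k (Xb 1 (map_one _)) (hJ rfl))) x hx 1 (map_one _) (by rw [e, one_mul])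
    rwa [e] at this
  refine ⟨ha, ?_⟩
  have e : ⁅x, e₀⁆.c = -x.b * e₀.a := by simp [comm_c, ha, mul_comm]
  have := hc _ (hV _ (k e₀ he)) e₀ he (-x.b) (by simp) e
  rw [e] at this
  simpa [h0] using this

theorem ej_span (h : Pr p u E L) (hJ : sJ ≤ E) {e₀ e₁ : US K} (he : e₀ ∈ E) (h0 : e₀.a ≠ 0) (he₁ : e₁ ∈ E)
    (h1 : σ (e₁.a / e₀.a) ≠ e₁.a / e₀.a) : False := EJ.key h hJ he h0 fun c k _ _ _ _ _ => by
  by_contra hc
  have h2 : σ e₀.a ≠ 0 := by simpa using h0
  refine h1 ?_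
  rw [map_div₀, div_eq_div_iff h2 h0]
  refine mul_left_cancel₀ hc ?_
  linear_combination e₀.a * k e₁ he₁ - e₁.a * k e₀ he

theorem ej_odd (h : Pr p u E L) (hp : p ≠ 2) (hJ : sJ ≤ E) {e₀ : US K} (he : e₀ ∈ E) (h0 : e₀.a ≠ 0)
    (h1 : ∀ e ∈ E, σ (e.a / e₀.a) = e.a / e₀.a) : False := EJ.key h hJ he h0 fun c k e he' l hl hc => by
  have _ := h1
  have h2 := k e he'
  rw [hc, map_mul, hl] at h2
  have h3 : 2 * (l * (e.a * σ e.a)) = 0 := by linear_combination h2
  rcases mul_eq_zero.1 ((mul_eq_zero.1 h3).resolve_left (U5F.two_ne p hp)) with h4 | h4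
  · rw [hc, h4, zero_mul]
  · rw [hc, U5F.nrm0 h4, mul_zero]

private theorem EJ.cen {v x y : US K} (hb : v.b ≠ 0) (hx : x * v = v * x) (hy : y * v = v * y) : x * y = y * x := by
  obtain ⟨x1, x2⟩ := comm_iff.1 hx
  obtain ⟨y1, y2⟩ := comm_iff.1 hy
  obtain ⟨l, hl, xa, xb⟩ : ∃ l, σ l = l ∧ x.a = l * v.a ∧ x.b = l * v.b :=
    ⟨x.b / v.b, by simp, by field_simp; linear_combination x1, by field_simp⟩
  obtain ⟨m, hm, ya, yb⟩ : ∃ l, σ l = l ∧ y.a = l * v.a ∧ y.b = l * v.b :=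
    ⟨y.b / v.b, by simp, by field_simp; linear_combination y1, by field_simp⟩
  rw [xa, xb, map_mul, hl] at x2
  rw [ya, yb, map_mul, hm] at y2
  rw [comm_iff, xa, xb, ya, yb, map_mul, map_mul, hl, hm]
  exact ⟨by ring, by linear_combination m * x2 - l * y2⟩

/-- a regular element in `Ω₁ Z(E)` -/
theorem reg_v (h : Pr p u E L) {v : US K} (hv : v ∈ Om p E ⊥) (ha : v.a ≠ 0) (hb : v.b ≠ 0) : False := by
  obtain ⟨-, pv, cv⟩ := U5F.mem_V.1 hv
  have hN : v.a * σ v.a ≠ 0 := fun e => ha (U5F.nrm0 e)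
  have p2 : p ≠ 2 := by
    rintro rfl
    have := congrArg US.c pv
    rw [pow_c, CharP.cast_eq_zero K 2] at this
    simp [ha, hb] at this
  have two := U5F.two_ne (K := K) p p2
  have c2 := U5F.choose_zero (K := K) p two_pos (U5F.three_le p p2)
  have p3 : 3 < p := by
    refine lt_of_le_of_ne (U5F.three_le p p2) ?_
    rintro rfl
    have := congrArg US.d pv
    rw [pow_d, c2, CharP.cast_eq_zero K 3] at this
    simp [ha, hb, two] at this
  have c3 := U5F.choose_zero (K := K) p three_pos p3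
  have pw : ∀ x : US K, x ^ p = 1 := fun x => by ext <;> simp [pow_a, pow_b, pow_c, pow_d, c2, c3]
  have mem : ∀ x, x * v = v * x → x ∈ E := fun x hx => h.cen x fun e k => EJ.cen hb hx (cv e k)
  have hY : ∀ t, (Xc t : US K) ∈ sY := fun t => ⟨rfl, rfl⟩
  have inj : ∀ i j : {t : K // σ t = t}, (Xc (i.1 * v.a))⁻¹ * Xc (j.1 * v.a) ∈ E → i = j := fun i j k => by
    have := (comm_iff.1 (cv _ k)).2
    simp [i.2, j.2] at this
    have h3 : 2 * ((j.1 - i.1) * (v.a * σ v.a)) = 0 := by linear_combination -this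
    exact Subtype.ext (sub_eq_zero.1 ((mul_eq_zero.1 ((mul_eq_zero.1 h3).resolve_left two)).resolve_right hN)).symm
  have o : Off p E ⊥ E (fun t : {t : K // σ t = t} => Xc (t.1 * v.a)) fun x => ⟨x.b / v.b, by simp⟩ :=
    { nm := fun i => .of_comm fun e _ => Z_le h (c_Y (hY _) e)
      ab := fun i j => Z_le h (c_Y (hY _) _)
      pow := fun i => pw _ ▸ one_mem E
      inj := inj
      out := ⟨⟨1, map_one _⟩, fun k => zero_ne_one (congrArg Subtype.val (inj ⟨0, map_zero _⟩ ⟨1, map_one _⟩ (by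
        convert k using 1
        ext <;> simp)))⟩
      fib := fun x hx y hy e i => by
        have e1 : x.b = y.b := by simpa [hb] using e
        have e2 := (comm_iff.1 (cv _ (mul_mem (inv_mem hx) hy))).1
        rw [mul_b, inv_b, e1, neg_add_cancel, mul_zero] at e2
        exact Subgroup.mem_bot.2 (commutatorElement_eq_one_iff_mul_comm.2
          (m_J rfl ((mul_eq_zero.1 e2).resolve_right hb))) }
  obtain ⟨ε, e0, e1⟩ := U5F.exists_skew K
  obtain ⟨i, e, he, k⟩ := tv h (fun a ha b hb' => EJ.cen hb (cv a ha) (cv b hb')) (fun a _ => pw a) o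
    (y := Xa (ε * v.a)) fun e _ => mem _ (by
      rw [comm_iff, comm_a, comm_b, comm_c]
      simp [e1]
      ring)
  have k1 : e.a = ε * v.a := by simpa using (congrArg US.a k).symm
  have k2 := (comm_iff.1 (cv e he)).1
  have k3 : e.b = ε * v.b := mul_left_cancel₀ ha (by rw [← k2, k1]; ring)
  have k4 := e.hb
  rw [k3, map_mul, e1, v.hb] at k4
  have k5 : 2 * (ε * v.b) = 0 := by linear_combination -k4
  simp [two, e0, hb] at k5

end Cfsg.Agent.U4F
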