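import Cfsg.Agent.U4F.Chr

/-! Project U4F: EJ2.  See `notes/U4F.md`. -/

set_option autoImplicit false
set_option linter.unusedSectionVars false

namespace Cfsg.Agent.U4F

open U5F (Bar σ σσ card_K card_fix exists_q map_σ TF θT)
open US FK
open RFS (Au)
open scoped commutatorElement

variable {K : Type*} [Field K] [Bar K] {G : Type*} [Group G] [Finite G] {p : ℕ} [Fact p.Prime] [CharP K p]
  {u : US K →* G} {f g F : US K → US K} {E : Subgroup (US K)} {L : Subgroup G}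

namespace EJ2

theorem exists_l (hq : 2 < Bar.q K) : ∃ l : K, σ l = l ∧ l ≠ 0 ∧ l ≠ 1 := by
  by_contra hc
  push Not at hc
  have := Nat.card_le_card_of_injective (β := Bool) (fun x : {x : K // σ x = x} => by
    classical exact decide (x.1 = 0)) fun x y e => by
      by_cases hx : x.1 = 0
      · have hy : y.1 = 0 := by simpa [hx] using e
        exact Subtype.ext (hx.trans hy.symm)
      · have hy : y.1 ≠ 0 := by simpa [hx] using e
        exact Subtype.ext ((hc _ x.2 hx).trans (hc _ y.2 hy).symm)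
  rw [card_fix, Nat.card_eq_fintype_card, Fintype.card_bool] at this
  omega

variable {a₀ : K}

theorem mem_V (hJ : sJ ≤ E) {e₀ : US K} (he : e₀ ∈ E) (h0 : e₀.a ≠ 0)
    (hE : ∀ e ∈ E, ∃ m, σ m = m ∧ e.a = m * e₀.a) {x : US K} :
    x ∈ Om p E ⊥ ↔ x.a = 0 ∧ x.b = 0 ∧ e₀.a * σ x.c + x.c * σ e₀.a = 0 := by
  rw [U5F.mem_V]
  refine ⟨fun ⟨_, _, k⟩ => ?_, fun ⟨k1, k2, k3⟩ => ⟨hJ k1, pow_p_J p k1, fun e he' => ?_⟩⟩
  · have ha : x.a = 0 := cz_Y fun e he' => (k e (hJ he'.1)).symm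
    obtain ⟨k1, k2⟩ := comm_iff.1 (k e₀ he)
    have hb : x.b = 0 := by simpa [ha, h0] using k1
    exact ⟨ha, hb, by simpa [ha, hb] using k2⟩
  · obtain ⟨m, hm, e1⟩ := hE e he'
    rw [comm_iff]
    refine ⟨by simp [k1, k2], ?_⟩
    simp only [k1, k2, e1, map_mul, hm, map_zero]
    linear_combination m * k3

/-- `J` is characteristic in `E` -/
theorem map_J (h2 : (2 : K) = 0) (hJ : sJ ≤ E) (h0 : a₀ ≠ 0) (hE : ∀ e ∈ E, ∃ m, σ m = m ∧ e.a = m * a₀)
    (hf : Au E f) {j : US K} (hj : j.a = 0) : (f j).a = 0 := by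
  by_contra ha
  have jj : j * j = 1 := by
    ext <;> simp [hj] <;> first | linear_combination j.b * h2 | linear_combination j.c * h2 | linear_combination j.d * h2
  have sq : f j * f j = 1 := by rw [← hf.mul j (hJ hj) j (hJ hj), jj, hf.one]
  have hb : (f j).b = 0 := by
    have := congrArg US.c sq
    simp only [mul_c, one_c] at this
    exact (mul_eq_zero.1 (show (f j).a * (f j).b = 0 by linear_combination this - (f j).c * h2)).resolve_left ha
  obtain ⟨m, hm, e1⟩ := hE _ (hf.mem j (hJ hj))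
  have m0 : m ≠ 0 := fun e => ha (by rw [e1, e, zero_mul])
  have hc : a₀ * σ (f j).c + (f j).c * σ a₀ = 0 := by
    have := congrArg US.d sq
    simp only [mul_d, one_d, hb, e1, map_mul, hm] at this
    exact mul_left_cancel₀ m0 (by linear_combination this - (f j).d * h2)
  have key : ∀ y : US K, y.a = 0 → (f y).b = 0 ∧ σ ((f y).a / a₀) = (f y).a / a₀ ∧
      σ ((f y).c / a₀) = (f y).c / a₀ := fun y hy => by
    have c : f j * f y = f y * f j := by
      rw [← hf.mul j (hJ hj) y (hJ hy), ← hf.mul y (hJ hy) j (hJ hj), m_J hj hy]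
    obtain ⟨k1, k2⟩ := comm_iff.1 c
    obtain ⟨n, hn, e2⟩ := hE _ (hf.mem y (hJ hy))
    have k3 : (f y).b = 0 := by simpa [hb, ha] using k1
    refine ⟨k3, by rw [e2, mul_div_cancel_right₀ _ h0, hn], ?_⟩
    simp only [k3, hb, e1, e2, map_mul, hm, hn] at k2
    have k4 : a₀ * σ (f y).c + (f y).c * σ a₀ = 0 := mul_left_cancel₀ m0 (by linear_combination k2 + n * hc)
    have s0 : σ a₀ ≠ 0 := (map_ne_zero σ).2 h0
    rw [map_div₀, div_eq_div_iff s0 h0]
    linear_combination k4 - (f y).c * σ a₀ * h2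
  let ι : {x : K // σ x = x} × K × {x : K // σ x = x} → US K := fun v =>
    ⟨0, v.1.1, v.2.1, v.2.2.1, v.1.2, v.2.2.2⟩
  have := Nat.card_le_card_of_injective
    (β := {x : K // σ x = x} × {x : K // σ x = x} × {x : K // σ x = x})
    (fun v => (⟨_, (key (ι v) rfl).2.1⟩, ⟨_, (key (ι v) rfl).2.2⟩, ⟨_, (f (ι v)).hd⟩)) fun v w e => by
      simp only [Prod.mk.injEq, Subtype.mk.injEq, div_left_inj' h0] at e
      have e' : ι v = ι w := hf.inj _ (hJ rfl) _ (hJ rfl)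
        (US.ext e.1 ((key (ι v) rfl).1.trans (key (ι w) rfl).1.symm) e.2.1 e.2.2)
      exact Prod.ext (Subtype.ext (congrArg US.b e'))
        (Prod.ext (congrArg US.c e') (Subtype.ext (congrArg US.d e')))
  simp only [Nat.card_prod, card_K, card_fix] at this
  have h3 := U5F.two_le_q (K := K)
  have h4 : Bar.q K * (Bar.q K * Bar.q K) * 1 < Bar.q K * (Bar.q K * Bar.q K) * Bar.q K :=
    Nat.mul_lt_mul_of_pos_left (by omega) (by positivity)
  nlinarith

/-- the commutator sets determine the class modulo `V` -/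
theorem det (h0 : a₀ ≠ 0) {l : K} (hl : σ l = l) (l0 : l ≠ 0) (l1 : l ≠ 1) {x y : US K} (hx : x.a = 0) (hy : y.a = 0)
    (hb : x.b ≠ 0) (k : ∀ m : K, σ m = m → ∃ (e : US K) (n : K), σ n = n ∧ e.a = n * a₀ ∧ ⁅Xa (m * a₀), x⁆ = ⁅e, y⁆) :
    y.b = x.b ∧ a₀ * σ y.c + y.c * σ a₀ = a₀ * σ x.c + x.c * σ a₀ := by
  obtain ⟨e₁, n₁, s₁, a₁, k₁⟩ := k 1 (map_one σ)
  obtain ⟨e₂, n₂, s₂, a₂, k₂⟩ := k l hl
  have c₁ := congrArg US.c k₁
  have d₁ := congrArg US.d k₁
  have c₂ := congrArg US.c k₂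
  have d₂ := congrArg US.d k₂
  simp only [comm_c, comm_d, Xa_a, Xa_b, Xa_c, hx, hy, a₁, a₂, map_mul, s₁, s₂, hl, map_zero, map_one] at c₁ d₁ c₂ d₂
  have s0 : σ a₀ ≠ 0 := (map_ne_zero σ).2 h0
  have b₁ : x.b = n₁ * y.b := mul_left_cancel₀ h0 (by linear_combination c₁)
  have b₂ : l * x.b = n₂ * y.b := mul_left_cancel₀ h0 (by linear_combination c₂)
  have y0 : y.b ≠ 0 := fun e => hb (by rw [b₁, e, mul_zero])
  have n2 : n₂ = l * n₁ := mul_right_cancel₀ y0 (by linear_combination l * b₁ - b₂)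
  subst n2
  have n1 : n₁ = 1 := by
    have e : l * (l - 1) * (x.b * (a₀ * σ a₀)) * (1 - n₁) = 0 := by
      linear_combination d₂ - l * d₁ - (l * l - l) * n₁ * (a₀ * σ a₀) * b₁
    have := (mul_eq_zero.1 e).resolve_left
      (mul_ne_zero (mul_ne_zero l0 (sub_ne_zero.2 l1)) (mul_ne_zero hb (mul_ne_zero h0 s0)))
    exact (sub_eq_zero.1 this).symm
  subst n1
  refine ⟨by rw [b₁, one_mul], ?_⟩
  linear_combination (a₀ * σ a₀) * b₁ - d₁

end EJ2

theorem ej_two (h : Pr p u E L) (hp : p = 2) (hq : 2 < Bar.q K) (hJ : sJ ≤ E) {e₀ : US K} (he : e₀ ∈ E)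
    (h0 : e₀.a ≠ 0) (h1 : ∀ e ∈ E, σ (e.a / e₀.a) = e.a / e₀.a) : False := by
  have h2 : (2 : K) = 0 := by
    have := CharP.cast_eq_zero K p
    rw [hp] at this
    exact_mod_cast this
  have hE : ∀ e ∈ E, ∃ m, σ m = m ∧ e.a = m * e₀.a := fun e he' => ⟨_, h1 e he', (div_mul_cancel₀ _ h0).symm⟩
  have mV := fun x => EJ2.mem_V (p := p) hJ he h0 hE (x := x)
  have mE : ∀ (x : US K) (m : K), σ m = m → x.a = m * e₀.a → x ∈ E := fun x m hm e1 => by
    refine h.chain1 (ivV h) (fun e he' => ?_) fun v hv => ?_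
    · obtain ⟨n, hn, e2⟩ := hE e he'
      refine (mV _).2 ⟨comm_a _ _, comm_b _ _, ?_⟩
      simp only [comm_c, e1, e2, map_sub, map_mul, hm, hn, hb]
      linear_combination (m * e.b - n * x.b) * (e₀.a * σ e₀.a) * h2
    · obtain ⟨k1, k2, k3⟩ := (mV _).1 hv
      rw [comm_iff]
      refine ⟨by simp [k1, k2], ?_⟩
      simp only [k1, k2, e1, map_mul, hm, map_zero]
      linear_combination m * k3
  obtain ⟨l, hl, l0, l1⟩ := EJ2.exists_l hq
  refine top h he h0 (h.iv_of (fun y hy => hJ hy.1) fun f hf k j hj => ?_)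
  have kV := k _ (ivV h)
  have jE : j ∈ E := hJ hj.1
  have ja := EJ2.map_J h2 hJ h0 hE hf hj.1
  refine ⟨ja, ?_⟩
  by_contra hb'
  have jE' : Xc (l * j.c) ∈ E := hJ rfl
  have ja' := EJ2.map_J h2 hJ h0 hE hf (j := Xc (l * j.c)) rfl
  obtain ⟨k1, k2⟩ := EJ2.det h0 hl l0 l1 ja ja' hb' fun m hm => by
    obtain ⟨e, he', e1⟩ := hf.sur _ (mE (Xa (m * e₀.a)) m hm rfl)
    obtain ⟨n, hn, e2⟩ := hE e he'
    have hE' : Xa (e.a / l) ∈ E := mE _ (n / l) (by rw [map_div₀, hn, hl]) (by rw [Xa_a, e2]; ring)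
    obtain ⟨n', hn', e3⟩ := hE _ (hf.mem _ hE')
    refine ⟨_, n', hn', e3, ?_⟩
    rw [← e1, ← hf.map_comm he' jE, ← hf.map_comm hE' jE']
    congr 1
    ext
    · simp [comm_a]
    · simp [comm_b]
    · simp [comm_c, hj.1, hj.2]
    · simp [comm_d, hj.1, hj.2, hl]
      field_simp
  have w : f (Xc (l * j.c) * j⁻¹) ∈ Om p E ⊥ := by
    rw [hf.mul _ jE' _ (inv_mem jE), hf.map_inv jE]
    refine (mV _).2 ⟨by simp [ja, ja'], by simp [k1], ?_⟩
    simp only [mul_c, inv_c, ja, ja', map_add, map_sub, zero_mul, map_zero]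
    linear_combination k2
  obtain ⟨v, hv, e⟩ := (hf.res (ivV h).le kV).sur _ w
  rw [hf.inj _ ((ivV h).le hv) _ (mul_mem jE' (inv_mem jE)) e] at hv
  have k3 := ((mV _).1 hv).2.2
  simp only [mul_c, inv_c, Xc_c, Xc_a, hj.1, map_add, map_sub, map_mul, hl, zero_mul, map_zero] at k3
  have k4 : e₀.a * σ j.c + j.c * σ e₀.a = 0 :=
    mul_left_cancel₀ (sub_ne_zero.2 l1) (by linear_combination k3)
  exact hb' ((mV _).1 (kV j ((mV _).2 ⟨hj.1, hj.2, k4⟩))).2.1

end Cfsg.Agent.U4F
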