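import Cfsg.Agent.U4F.Chr
import Cfsg.Agent.U5F.EP

/-! Project U4F: EQ.  See `notes/U4F.md`. -/

set_option autoImplicit false
set_option linter.unusedSectionVars false

namespace Cfsg.Agent.U4F

open U5F (Bar σ σσ card_K card_fix exists_q map_σ TF θT)
open US FK
open RFS (Au)
open scoped commutatorElement

variable {K : Type*} [Field K] [Bar K] {G : Type*} [Group G] [Finite G] {p : ℕ} [Fact p.Prime] [CharP K p]
  {u : US K →* G} {f g F : US K → US K} {E : Subgroup (US K)} {L : Subgroup G}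

namespace EQ

theorem ciQ {x y : US K} (hx : x.b = 0) (hy : y.b = 0) :
    x * y = y * x ↔ x.a * σ y.c + y.c * σ x.a = y.a * σ x.c + x.c * σ y.a := by
  rw [comm_iff]; simp [hx, hy]

theorem Z_ext {z w : US K} (hz : z ∈ (sZ : Subgroup (US K))) (hw : w ∈ (sZ : Subgroup (US K))) (h : z.d = w.d) :
    z = w :=
  US.ext (hz.1.trans hw.1.symm) (hz.2.1.trans hw.2.1.symm) (hz.2.2.trans hw.2.2.symm) h

theorem Z_ne {z : US K} (hz : z ∈ (sZ : Subgroup (US K))) (h : z ≠ 1) : z.d ≠ 0 := fun k =>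
  h (Z_ext hz (one_mem _) k)

theorem pow_Z (p : ℕ) [CharP K p] {x : US K} (hx : x.b = 0) : x ^ p ∈ (sZ : Subgroup (US K)) := by
  simp [pow_a, pow_b, pow_c, hx]

theorem exQ (a c : K) : ∃ x : US K, x.b = 0 ∧ x.a = a ∧ x.c = c :=
  ⟨⟨a, 0, c, 0, by simp, by simp⟩, rfl, rfl, rfl⟩

theorem fix_div {s t : K} (hs : σ s = s) (ht : σ t = t) : σ (s / t) = s / t := by
  rw [map_div₀, hs, ht]

/-- the centre of `E` -/
def Zc (E : Subgroup (US K)) : Subgroup (US K) := E ⊓ Subgroup.centralizer (E : Set (US K))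

theorem mem_Zc {x : US K} : x ∈ Zc E ↔ x ∈ E ∧ ∀ e ∈ E, e * x = x * e := Iff.rfl

theorem ivZc (h : Pr p u E L) : Iv u E L (Zc E) := h.iv_cz h.iv_top h.iv_top h.iv_bot fun a => by
  simp only [mem_Zc, Subgroup.mem_bot, commutatorElement_eq_one_iff_mul_comm]
  exact and_congr_right fun _ => forall₂_congr fun _ _ => eq_comm

/-- `E / Z` is a space over the fixed field -/
theorem scale (h : Pr p u E L) (hE : E ≤ sQ) {x y : US K} {l : K} (hx : x ∈ E) (hl : σ l = l)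
    (hy : y.b = 0) (ha : y.a = l * x.a) (hc : y.c = l * x.c) : y ∈ E := by
  refine h.chain1 (ivZc h) (fun e k => ?_) fun b hb => ?_
  · have z := c_QQ hy (hE k)
    exact ⟨Z_le h z, fun e' _ => (m_Z z e').symm⟩
  · have := (ciQ (hE hx) (hE hb.1)).1 (hb.2 x hx)
    rw [ciQ hy (hE hb.1), ha, hc]
    simp only [map_mul, hl]
    linear_combination l * this

theorem of_ivZ (h : Pr p u E L) (hE : E ≤ sQ) (iZ : Iv u E L sZ) : E = sQ :=
  le_antisymm hE fun x hx => h.chain1 iZ (fun _ he => c_QQ hx (hE he)) fun _ hb => (m_Z hb x).symm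

theorem nab (h : Pr p u E L) (hE : E ≤ sQ) {x y : US K} (hx : x ∈ E) (hy : y ∈ E) (k : x * y ≠ y * x) :
    Iv u E L sZ := by
  have e : (sZ : Subgroup (US K)) = ⁅E, E⁆ := by
    refine le_antisymm (fun z hz => ?_) (Subgroup.commutator_le.2 fun a ha b hb => c_QQ (hE ha) (hE hb))
    have c := c_QQ (hE hx) (hE hy)
    have n := Z_ne c fun e => k (commutatorElement_eq_one_iff_mul_comm.1 e)
    have hl := fix_div z.hd ⁅x, y⁆.hd
    obtain ⟨l, el⟩ : ∃ l, l = z.d / ⁅x, y⁆.d := ⟨_, rfl⟩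
    rw [← el] at hl
    obtain ⟨x', h0, h1, h2⟩ := exQ (l * x.a) (l * x.c)
    have : z = ⁅x', y⁆ := Z_ext hz (c_QQ h0 (hE hy)) (by
      have : z.d = l * ⁅x, y⁆.d := by rw [el]; field_simp
      rw [this, comm_Q h0 (hE hy), comm_Q (hE hx) (hE hy), h1, h2]
      simp only [map_mul, hl]
      ring)
    exact this ▸ Subgroup.commutator_mem_commutator (scale h hE hx hl h0 h1 h2) hy
  exact e ▸ h.iv_comm h.iv_top h.iv_top

theorem sq_d {x : US K} [CharP K 2] (hx : x.b = 0) : (x ^ 2).d = x.a * σ x.c + x.c * σ x.a := by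
  have c0 : ((2 : ℕ) : K) = 0 := CharP.cast_eq_zero K 2
  rw [pow_d, c0]
  simp [hx, Nat.choose]

theorem npow (h : Pr p u E L) (hE : E ≤ sQ) {x : US K} (hx : x ∈ E) (k : x ^ p ≠ 1) : Iv u E L sZ := by
  obtain rfl : p = 2 := by
    by_contra hp
    exact k (pow_p_Q p hp (hE hx))
  refine h.iv_of (Z_le h) fun f hf _ z hz => ?_
  have c := pow_Z 2 (hE hx)
  have n := Z_ne c k
  obtain ⟨l, hl, el⟩ := U5F.EP.sq_root (fix_div z.hd (x ^ 2).hd)
  obtain ⟨x', h0, h1, h2⟩ := exQ (l * x.a) (l * x.c)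
  have m := scale h hE hx hl h0 h1 h2
  have : z = x' ^ 2 := Z_ext hz (pow_Z 2 h0) (by
    have : z.d = l ^ 2 * (x ^ 2).d := by rw [el]; field_simp
    rw [this, sq_d h0, sq_d (hE hx), h1, h2]
    simp only [map_mul, hl]
    ring)
  rw [this, sq, hf.mul _ m _ m, ← sq]
  exact pow_Z 2 (hE (hf.mem _ m))

theorem span (h : Pr p u E L) (hE : E ≤ sQ) (ab : ∀ a ∈ E, ∀ b ∈ E, a * b = b * a) (pw : ∀ a ∈ E, a ^ p = 1)
    {t : K} (nw : Xc t ∉ E) {y : US K} (hy : y.b = 0) :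
    ∃ l, σ l = l ∧ ∃ e ∈ E, y.a = e.a ∧ y.c = l * t + e.c := by
  have o : Off p E ⊥ E (fun l : {x : K // σ x = x} => Xc (l.1 * t))
      fun x => (⟨x.a * σ t + t * σ x.a, by simp; ring⟩ : {x : K // σ x = x}) := by
    refine ⟨fun i => .of_comm fun e he => Z_le h (c_QQ rfl (hE he)),
      fun i j => Z_le h (c_QQ rfl rfl), fun i => Z_le h (pow_Z p rfl), fun i j k => ?_,
      ⟨⟨1, map_one _⟩, fun k => nw (scale h hE k (map_one σ) rfl ?_ ?_)⟩, fun a ha b hb k i => ?_⟩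
    · by_contra n
      have n' : j.1 - i.1 ≠ 0 := sub_ne_zero.2 fun e => n (Subtype.ext e.symm)
      refine nw (scale h hE (l := (j.1 - i.1)⁻¹) k (by rw [map_inv₀, map_sub, i.2, j.2]) rfl ?_ ?_)
      · simp
      · simp; field_simp; ring
    · simp
    · simp
    · have k' : a.a * σ t + t * σ a.a = b.a * σ t + t * σ b.a := congrArg Subtype.val k
      rw [Subgroup.mem_bot, commutatorElement_eq_one_iff_mul_comm, ciQ rfl (hE (mul_mem (inv_mem ha) hb))]
      simp only [Xc_a, Xc_c, mul_a, inv_a, map_mul, map_add, map_neg, map_zero, i.2]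
      linear_combination i.1 * k'
  obtain ⟨i, e, he, rfl⟩ := tv h ab pw o fun e he => Z_le h (c_QQ hy (hE he))
  exact ⟨i.1, i.2, e, he, by simp, by simp⟩

theorem not_el (h : Pr p u E L) (hE : E ≤ sQ) (hJ : ¬ E ≤ sJ) (ab : ∀ a ∈ E, ∀ b ∈ E, a * b = b * a)
    (pw : ∀ a ∈ E, a ^ p = 1) : False := by
  obtain ⟨θ, hθ⟩ := U5F.exists_σ_ne K
  obtain ⟨t, nw⟩ : ∃ t : K, Xc t ∉ E := by
    by_contra n
    push Not at n
    refine hJ fun x hx => cz_Y fun y hy => ?_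
    have := (ciQ (hE hx) rfl).1 (ab x hx _ (n y.c))
    rw [ciQ (hE hx) hy.2, hy.1]
    simpa using this
  have t0 : t ≠ 0 := fun e => nw (by
    have : (Xc t : US K) = 1 := by ext <;> simp [e]
    exact this ▸ one_mem E)
  obtain ⟨l, hl, e, he, h1, h2⟩ := span h hE ab pw nw (y := Xc (θ * t)) rfl
  have key : ∀ a : K, σ e.c * a + e.c * σ a = 0 := fun a => by
    obtain ⟨-, -, e', he', h3, -⟩ := span h hE ab pw nw (y := Xa a) rfl
    have := (ciQ (hE he') (hE he)).1 (ab _ he' _ he)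
    simp only [Xa_a, Xc_a] at h1 h3
    rw [← h1, ← h3] at this
    simp only [zero_mul, map_zero, mul_zero, add_zero] at this
    linear_combination this
  have c0 := (U5F.indep key).2
  simp only [Xc_c, c0, add_zero] at h2
  exact hθ (by rw [mul_right_cancel₀ t0 h2, hl])

end EQ

theorem eqQ (h : Pr p u E L) (hQ : E ≤ sQ) (hJ : ¬ E ≤ sJ) : E = sQ := by
  by_cases ab : ∀ a ∈ E, ∀ b ∈ E, a * b = b * a
  · by_cases pw : ∀ a ∈ E, a ^ p = 1
    · exact (EQ.not_el h hQ hJ ab pw).elim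
    · push Not at pw
      obtain ⟨x, hx, k⟩ := pw
      exact EQ.of_ivZ h hQ (EQ.npow h hQ hx k)
  · push Not at ab
    obtain ⟨x, hx, y, hy, k⟩ := ab
    exact EQ.of_ivZ h hQ (EQ.nab h hQ hx hy k)

end Cfsg.Agent.U4F
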