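import Cfsg.Agent.U4F.Chr

/-! Project U4F: EV.  See `notes/U4F.md`. -/

set_option autoImplicit false
set_option linter.unusedSectionVars false

namespace Cfsg.Agent.U4F

open U5F (Bar σ σσ card_K card_fix exists_q map_σ TF θT)
open US FK
open RFS (Au)
open scoped commutatorElement

variable {K : Type*} [Field K] [Bar K] {G : Type*} [Group G] [Finite G] {p : ℕ} [Fact p.Prime] [CharP K p]
  {u : US K →* G} {f g F : US K → US K} {E : Subgroup (US K)} {L : Subgroup G}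

namespace EV

/-- the elements of `Y` whose third coordinate is proportional to `a` -/
def sW (a : K) : Subgroup (US K) where
  carrier := {x | x.a = 0 ∧ x.b = 0 ∧ a * σ x.c = x.c * σ a}
  one_mem' := by simp
  mul_mem' := fun ⟨h0, h1, h2⟩ ⟨k0, k1, k2⟩ => by
    simp only [Set.mem_setOf_eq, mul_a, mul_b, mul_c, h0, h1, k0, k1, add_zero, mul_zero, map_add, true_and]
    linear_combination h2 + k2
  inv_mem' := fun ⟨h0, h1, h2⟩ => by
    simp only [Set.mem_setOf_eq, inv_a, inv_b, inv_c, h0, h1, neg_zero, mul_zero, zero_sub, map_neg, true_and]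
    linear_combination -h2

end EV

open EV

theorem ev (h : Pr p u E L) (hV : Om p E ⊥ ≤ sJ) {e₀ : US K} (he : e₀ ∈ E) (ha : e₀.a ≠ 0) (hb : e₀.b ≠ 0) :
    sJ ≤ E := by
  have ha' : σ e₀.a ≠ 0 := (map_ne_zero σ).2 ha
  have hv : ∀ v ∈ Om p E ⊥, v.a = 0 ∧ v.b = 0 ∧ ∀ e ∈ E, e.a * σ v.c + v.c * σ e.a = 0 := fun v hv => by
    have v0 : v.a = 0 := hV hv
    have v1 : v.b = 0 := by
      have := (comm_iff.1 ((U5F.mem_V.1 hv).2.2 e₀ he)).1
      rw [v0, zero_mul] at this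
      exact (mul_eq_zero.1 this).resolve_left ha
    refine ⟨v0, v1, fun e he => ?_⟩
    simpa [v0, v1] using (comm_iff.1 ((U5F.mem_V.1 hv).2.2 e he)).2
  have YE : sY ≤ E := fun x hx =>
    h.chain1 (ivV h) (fun e _ => Z_le_V h (c_Y hx e)) fun v k => m_J hx.1 (hV k)
  by_cases hc : ∀ e ∈ E, e₀.a * σ e.a = e.a * σ e₀.a
  swap
  · push Not at hc
    obtain ⟨e₁, he₁, hc⟩ := hc
    have VZ : Om p E ⊥ = sZ := le_antisymm (fun v k => by
      obtain ⟨v0, v1, v2⟩ := hv v k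
      refine ⟨v0, v1, (mul_eq_zero.1 (?_ : v.c * (e₀.a * σ e₁.a - e₁.a * σ e₀.a) = 0)).resolve_right
        (sub_ne_zero.2 hc)⟩
      linear_combination e₀.a * v2 e₁ he₁ - e₁.a * v2 e₀ he) (Z_le_V h)
    refine (top h he ha (h.iv_cz h.iv_top h.iv_top (VZ ▸ ivV h) fun x =>
      ⟨fun k => ⟨YE k, fun e _ => c_Y k e⟩, fun k => ?_⟩)).elim
    have k0 := (k.2 e₀ he).2.2
    have k1 := (k.2 e₁ he₁).2.2
    rw [comm_c] at k0 k1
    have xb : x.b = 0 := by
      by_contra xb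
      have k2 : e₀.a * e₁.b = e₁.a * e₀.b :=
        mul_left_cancel₀ xb (by linear_combination e₀.b * k1 - e₁.b * k0)
      have k3 := congrArg σ k2
      rw [map_mul, map_mul, e₀.hb, e₁.hb] at k3
      exact hc (mul_left_cancel₀ hb (by linear_combination σ e₀.a * k2 - e₀.a * k3))
    rw [xb, mul_zero, sub_zero] at k0
    exact ⟨(mul_eq_zero.1 k0).resolve_right hb, xb⟩
  have mV : ∀ y : US K, y.a = 0 → y.b = 0 → e₀.a * σ y.c + y.c * σ e₀.a = 0 → y ∈ Om p E ⊥ := fun y y0 y1 y2 =>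
    U5F.mem_V.2 ⟨YE ⟨y0, y1⟩, pow_p_J p y0, fun e k => by
      obtain ⟨l, l1, l2⟩ := U5F.prop_of ha (hc e k)
      refine comm_iff.2 ⟨by rw [y0, y1, mul_zero, zero_mul], ?_⟩
      rw [y0, y1, l2, map_mul, l1, map_zero]
      linear_combination l * y2⟩
  by_cases h2 : p = 2
  · subst h2
    refine fun j hj => h.chain1 (ivV h) (fun e k => mV _ (comm_a ..) (comm_b ..) ?_) fun v k => m_J hj (hV k)
    obtain ⟨l, l1, l2⟩ := U5F.prop_of ha (hc e k)
    rw [comm_c, mem_sJ.1 hj, l2]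
    simp only [zero_mul, zero_sub, map_neg, map_mul, l1, j.hb]
    linear_combination (-(l * j.b * e₀.a * σ e₀.a)) * CharTwo.two_eq_zero (R := K)
  exfalso
  have t2 : (2 : K) ≠ 0 := U5F.two_ne p h2
  have EW : ⁅E, E⁆ ≤ sW e₀.a := Subgroup.commutator_le.2 fun x hx y hy => ⟨comm_a .., comm_b .., by
    rw [comm_c, map_sub, map_mul, map_mul, x.hb, y.hb]
    linear_combination y.b * hc x hx - x.b * hc y hy⟩
  have ZE : ⁅E, E⁆ ⊓ Om p E ⊥ = sZ := le_antisymm (fun x k => by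
      obtain ⟨x0, x1, x2⟩ := EW k.1
      have x3 := (hv x k.2).2.2 e₀ he
      refine ⟨x0, x1, (mul_eq_zero.1 (?_ : x.c * (2 * σ e₀.a) = 0)).resolve_right (mul_ne_zero t2 ha')⟩
      linear_combination x3 - x2)
    (le_inf (fun z k => by
      obtain ⟨y, hy, rfl⟩ := exists_comm_Y ha k
      exact Subgroup.commutator_mem_commutator (YE hy) he) (Z_le_V h))
  obtain ⟨ε, e0, e1⟩ := U5F.exists_skew K
  have hx : Xa (ε * e₀.a) ∈ E := h.chain2 (ivV h) (ZE ▸ h.iv_inf (h.iv_comm h.iv_top h.iv_top) (ivV h))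
    (fun e _ => mV _ (comm_a ..) (comm_b ..) (by
      rw [comm_c]
      simp only [Xa_a, Xa_b, mul_zero, sub_zero, map_mul, e1, e.hb]
      ring))
    (fun v k => c_QQ rfl (hv v k).2.1) fun z k => (m_Z k _).symm
  have := hc _ hx
  rw [Xa_a, map_mul, e1] at this
  exact mul_ne_zero (mul_ne_zero t2 e0) (mul_ne_zero ha ha') (by linear_combination -this)

end Cfsg.Agent.U4F
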