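import Cfsg.Agent.U4F.Chr
import Cfsg.Agent.FK.TI
import Cfsg.Agent.FK.FF

/-! Project U4F: Ext.  See `notes/U4F.md`. -/

set_option autoImplicit false
set_option linter.unusedSectionVars false

namespace Cfsg.Agent.U4F

open U5F (Bar σ σσ card_K card_fix exists_q map_σ TF θT)
open US FK
open RFS (Au)
open scoped commutatorElement

variable {K : Type*} [Field K] [Bar K] {G : Type*} [Group G] [Finite G] {p : ℕ} [Fact p.Prime] [CharP K p]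
  {u : US K →* G} {f g F : US K → US K} {E : Subgroup (US K)} {L : Subgroup G}

namespace ExtAux

theorem ZY : (sZ : Subgroup (US K)) ≤ sY := fun _ h => ⟨h.1, h.2.1⟩
theorem YJ : (sY : Subgroup (US K)) ≤ sJ := fun _ h => h.1
theorem YQ : (sY : Subgroup (US K)) ≤ sQ := fun _ h => h.2

theorem flip {B : Subgroup (US K)} {x y : US K} (h : ⁅x, y⁆ ∈ B) : ⁅y, x⁆ ∈ B := by
  rw [← commutatorElement_inv]
  exact inv_mem h

theorem noYZ (h : Pr p u sJ L) (iY : Iv u sJ L sY) (iZ : Iv u sJ L sZ) : False := by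
  simpa using h.chain2 (x := Xa 1) iY iZ (fun e _ => c_top _ e) (fun b hb => flip (c_Y hb _))
    fun c hc => (m_Z hc _).symm

theorem off {V₁ V₂ : Subgroup (US K)} {lam : US K → K}
    (k : ∀ v ∈ V₂, ∀ w ∈ V₂, lam v = lam w → ∀ i : K, ⁅(Xa i : US K), v⁻¹ * w⁆ ∈ V₁) : Off p sJ V₁ V₂ Xa lam :=
  ⟨fun _ => nm_J _, fun _ _ => comm_a _ _, fun i => by simp [pow_a], fun i j e => neg_add_eq_zero.1 (by simpa using e),
    ⟨1, by simp⟩, k⟩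

theorem sec {V₁ V₂ : Subgroup (US K)} (h1 : Iv u sJ L V₁) (h2 : Iv u sJ L V₂) (hl : V₁ ≤ V₂) : Sec p u sJ L V₁ V₂ :=
  ⟨h1, h2, hl, fun _ hv => pow_p_J p (h2.le hv) ▸ one_mem _, fun _ he _ hv =>
    commutatorElement_eq_one_iff_mul_comm.2 (m_J he (h2.le hv)) ▸ one_mem _⟩

theorem dec (c : Cx p u) {A : Subgroup (US K)} (h : Ext u A f) : ∃ (s : US K) (r t : K) (φ : K ≃+* K), r ≠ 0 ∧ t ≠ 0 ∧
    In u ⊤ (fun a => tor r t (fld φ a)) ∧ ∀ a ∈ A, f a = s * tor r t (fld φ a) * s⁻¹ := by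
  obtain ⟨F, hF, e⟩ := h
  obtain ⟨s, r, t, φ, hr, ht, k⟩ := c.std F hF
  refine ⟨s, r, t, φ, hr, ht, ((In.conj u ⊤ s⁻¹).comp hF.ind fun _ _ => trivial).congr fun a _ => ?_,
    fun a ha => by rw [← e a ha, k]⟩
  rw [k]
  group

theorem tw {A B : Subgroup (US K)} (hA : ∀ F, Au ⊤ F → ∀ a ∈ A, F a ∈ A) (hB : ∀ F, Au ⊤ F → ∀ a ∈ B, F a ∈ B)
    (hf : Fa u A f) (hn : ¬ ∀ y ∈ B, f y ∈ B) (β : US K ≃* US K) :
    ∃ f', Fa (u.comp β.toMonoidHom) A f' ∧ ¬ ∀ y ∈ B, f' y ∈ B := by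
  have a1 := Au.equiv β
  have a2 := Au.equiv β.symm
  refine ⟨fun a => β.symm (f (β a)), ⟨(a2.res le_top (hA _ a2)).comp (hf.au.comp (a1.res le_top (hA _ a1))),
    hf.ind.tw β (hA _ a1)⟩, fun k => hn fun y hy => ?_⟩
  simpa using hB _ a1 _ (k _ (hB _ a2 y hy))

theorem inv {A B : Subgroup (US K)} (hl : B ≤ A) (hf : Au A f) (e : ∀ a ∈ A, g (f a) = a) (k : ∀ b ∈ B, f b ∈ B) :
    ∀ b ∈ B, g b ∈ B := fun b hb => by
  obtain ⟨a, ha, rfl⟩ := (hf.res hl k).sur b hb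
  rwa [e a (hl ha)]

theorem of_comap {A : Subgroup (US K)} (hA : ∀ F, Au ⊤ F → ∀ a ∈ A, F a ∈ A) {β : US K ≃* US K}
    (e : E.comap β.symm.toMonoidHom = A) : E = A := by
  subst e
  exact Subgroup.ext fun x => ⟨fun hx => by simpa using hA _ (Au.equiv β.symm) (β x) (by simpa using hx),
    fun hx => by simpa using hA _ (Au.equiv β) x hx⟩

end ExtAux

open ExtAux

theorem extQ (h : Two p u sQ sJ) (hf : Fa u sQ f) (k : PY f) : Ext u sQ f :=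
  (h.ext_or YQ nm_Y hf k).resolve_right fun ⟨_, hL, iY⟩ => h.TQ (J_le hL iY)

theorem extJ (h : Two p u sQ sJ) (hf : Fa u sJ f) (k : PZ f) : Ext u sJ f := by
  refine (h.symm.ext_or (ZY.trans YJ) nm_Z hf k).resolve_right fun ⟨L, hL, iZ⟩ => ?_
  rcases hL.ff (sec iZ hL.iv_top iZ.le) (off (lam := US.b) fun v hv w hw e i =>
    flip (c_Y (by simp [mem_sJ.1 hv, mem_sJ.1 hw, e]) _)) with a | a
  · obtain ⟨L', hl, h', iY⟩ := a.normal sY ZY YJ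
    exact noYZ h' iY (iZ.mono hl)
  · obtain ⟨θ, hθ⟩ := U5F.exists_σ_ne K
    obtain ⟨v, -, rfl⟩ := a.sur θ
    exact hθ v.hb

theorem extJY (h : Two p u sQ sJ) (hf : Fa u sJ f) (k : PY f) : Ext u sJ f := by
  refine (h.symm.ext_or YJ nm_Y hf k).resolve_right fun ⟨L, hL, iY⟩ => ?_
  rcases hL.ff (sec hL.iv_bot iY bot_le) (off (lam := US.c) fun v hv w hw e i =>
    commutatorElement_eq_one_iff_mul_comm.2 (m_Z (by simp [hv.1, hv.2, hw.1, hw.2, e]) _).symm) with a | a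
  · obtain ⟨L', hl, h', iZ⟩ := a.normal sZ bot_le ZY
    exact noYZ h' (iY.mono hl) iZ
  · obtain ⟨ε, h0, hε⟩ := U5F.exists_skew K
    obtain ⟨ω, hω⟩ := U5F.exists_tr (K := K) (t := 1) (map_one _)
    have := congrArg US.d (Subgroup.mem_bot.1 (a.ti (Xa ε) (nm_J _) h0 (Xc 1) ⟨rfl, rfl⟩
      (Subgroup.mem_bot.2 (by ext <;> simp [comm_a, comm_b, comm_c, comm_d, hε])) (Xa ω) (nm_J _)))
    simp [comm_d, hω] at this

theorem pz_of_ext (h : Ext u sJ f) : PZ f ∧ PY f :=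
  let ⟨_, hF, e⟩ := h
  ⟨fun y hy => e y hy.1 ▸ ch_Z hF.au y hy, fun y hy => e y hy.1 ▸ ch_Y hF.au y hy⟩

theorem py_of_ext (h : Ext u sQ f) : PY f := fun y hy =>
  let ⟨_, hF, e⟩ := h
  e y hy.2 ▸ ch_Y hF.au y hy

theorem p0J (h : Two p u sQ sJ) (hf : Fa u sJ f) {s : US K} (hs : s.a ≠ 0) (hg : Fa u sJ g) (k : PZ g)
    (e : ∀ a ∈ (sJ : Subgroup (US K)), f (s * a * s⁻¹) = g (f a)) : PZ f := by
  obtain ⟨F, hF, e'⟩ := extJ h hg k
  exact (pz_of_ext (h.symm.ti hf hs hF fun a ha => by rw [e a ha, e' _ (hf.au.mem a ha)])).1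

theorem p0Q (h : Two p u sQ sJ) (hf : Fa u sQ f) {s : US K} (hs : s.b ≠ 0) (hg : Fa u sQ g) (k : PY g)
    (e : ∀ a ∈ (sQ : Subgroup (US K)), f (s * a * s⁻¹) = g (f a)) : PY f := by
  obtain ⟨F, hF, e'⟩ := extQ h hg k
  exact py_of_ext (h.ti hf hs hF fun a ha => by rw [e a ha, e' _ (hf.au.mem a ha)])

theorem pz_inv (hf : Au sJ f) (hg : Au sJ g) (e : ∀ a ∈ (sJ : Subgroup (US K)), g (f a) = a) (k : PZ f) : PZ g :=
  have _ := hg
  ExtAux.inv (ZY.trans YJ) hf e k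

theorem py_inv (hf : Au sQ f) (hg : Au sQ g) (e : ∀ a ∈ (sQ : Subgroup (US K)), g (f a) = a) (k : PY f) : PY g :=
  have _ := hg
  ExtAux.inv YQ hf e k

theorem Cx.decJ (c : Cx p u) (hf : Fa u sJ f) (k : PZ f) : ∃ (s : US K) (r t : K) (φ : K ≃+* K), r ≠ 0 ∧ t ≠ 0 ∧
    In u ⊤ (fun a => tor r t (fld φ a)) ∧ ∀ a ∈ (sJ : Subgroup (US K)), f a = s * tor r t (fld φ a) * s⁻¹ :=
  dec c (extJ c.two hf k)

theorem Cx.decQ (c : Cx p u) (hf : Fa u sQ f) (k : PY f) : ∃ (s : US K) (r t : K) (φ : K ≃+* K), r ≠ 0 ∧ t ≠ 0 ∧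
    In u ⊤ (fun a => tor r t (fld φ a)) ∧ ∀ a ∈ (sQ : Subgroup (US K)), f a = s * tor r t (fld φ a) * s⁻¹ :=
  dec c (extQ c.two hf k)

theorem EssJ.tw (h : EssJ u) (β : US K ≃* US K) : EssJ (u.comp β.toMonoidHom) :=
  let ⟨_, hf, hn⟩ := h
  ExtAux.tw (fun _ => ch_J) (fun _ => ch_Z) hf hn β

theorem EssQ.tw (h : EssQ u) (β : US K ≃* US K) : EssQ (u.comp β.toMonoidHom) :=
  let ⟨_, hf, hn⟩ := h
  ExtAux.tw (fun _ => ch_Q) (fun _ => ch_Y) hf hn β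

theorem two_tw (h : Two p u sQ sJ) (β : US K ≃* US K) : Two p (u.comp β.toMonoidHom) sQ sJ := by
  refine ⟨h.sat.tw β, fun E L k => ?_, h.nQ, h.nT, h.cQ, h.cT, h.chQ, h.chT, h.QT, h.TQ⟩
  have := k.tw β.symm
  rw [show (u.comp β.toMonoidHom).comp β.symm.toMonoidHom = u from MonoidHom.ext fun x => by simp] at this
  exact (h.ess _ _ this).imp (of_comap h.chQ) (of_comap h.chT)

end Cfsg.Agent.U4F
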