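import Cfsg.Agent.U4F.Lin

/-! Project U4F: GrQ.  See `notes/U4F.md`. -/

set_option autoImplicit false
set_option linter.unusedSectionVars false

namespace Cfsg.Agent.U4F

open U5F (Bar σ σσ card_K card_fix exists_q map_σ TF θT)
open US FK
open RFS (Au)
open scoped commutatorElement

variable {K : Type*} [Field K] [Bar K] {G : Type*} [Group G] [Finite G] {p : ℕ} [Fact p.Prime] [CharP K p]
  {u : US K →* G} {f g F : US K → US K} {E : Subgroup (US K)} {L : Subgroup G}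

namespace GrQa

/-- some conjugate of `Y / Z` is the graph of `a ↦ s a + e σa` -/
def Gp (u : US K →* G) (s e : K) : Prop := ∃ f, Fa u sQ f ∧ ¬ PY f ∧ σ s = s ∧
  ∀ y ∈ (sY : Subgroup (US K)), (f y).c = s * (f y).a + e * σ (f y).a

theorem YQ {y : US K} (hy : y ∈ (sY : Subgroup (US K))) : y ∈ (sQ : Subgroup (US K)) := hy.2

theorem np_comp (hg : Fa u sQ g) (kg : PY g) (hf : Fa u sQ f) (k : ¬ PY f) : ¬ PY fun a => g (f a) := by
  intro e
  obtain ⟨g', h1, h2, -⟩ := hg.exists_inv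
  refine k fun y hy => ?_
  rw [← h2 (f y) (hf.au.mem y (YQ hy))]
  exact py_inv hg.au h1.au h2 kg _ (e y hy)

theorem shift {s e t : K} (h : Gp u s e) (ht : σ t = t) : Gp u (s - t) e := by
  obtain ⟨f, hf, k, hs, gr⟩ := h
  have c := Fa.conj u (Xb t ht) (nm_Q _)
  refine ⟨_, c.comp hf, np_comp c (nm_Y _) hf k, by rw [map_sub, hs, ht], fun y hy => ?_⟩
  obtain ⟨h1, -, h2⟩ := cj_Q (Xb t ht) (mem_sQ.1 (hf.au.mem y (YQ hy)))
  rw [h1, h2, gr y hy, Xb_b]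
  ring

theorem torus (ta : TorA u) {s e l : K} (h : Gp u s e) (hl : l ≠ 0) :
    Gp u (s / (l * σ l)) (l / σ l ^ 3 * e) := by
  obtain ⟨f, hf, k, hs, gr⟩ := h
  have c := (fa_tor (pow_ne_zero 2 hl) (inv_ne_zero hl) (ta l hl)).2
  have hl' : σ l ≠ 0 := (map_ne_zero σ).2 hl
  refine ⟨_, c.comp hf, np_comp c (fun y hy => by simp [hy.1, hy.2]) hf k,
    by rw [map_div₀, map_mul, σσ, hs, mul_comm], fun y hy => ?_⟩
  simp only [tor_a, tor_c, gr y hy, map_mul, map_pow, map_inv₀]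
  field_simp

theorem meet (o : OppQ u) {s e s' e' a : K} (h : Gp u s e) (h' : Gp u s' e') (ha : a ≠ 0)
    (ea : s * a + e * σ a = s' * a + e' * σ a) : e = e' := by
  obtain ⟨f, hf, k, -, gr⟩ := h
  obtain ⟨f', hf', k', -, gr'⟩ := h'
  obtain ⟨g, hg, g1, g2⟩ := hf'.exists_inv
  have su := (graph o hf k).1
  obtain ⟨y, hy, ey⟩ := su a
  obtain ⟨y', hy', ey'⟩ := (graph o hf' k').1 a
  have py : PY fun a => g (f a) := by
    by_contra n
    have h1 := (au_modZ hg.au (hf.au.mem y (YQ hy)) (hf'.au.mem y' (YQ hy')) (ey.trans ey'.symm)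
      (by rw [gr y hy, gr' y' hy', ey, ey', ea])).1
    rw [g1 y' (YQ hy'), hy'.1] at h1
    have h2 := o _ (hg.comp hf) n y hy h1
    exact ha (ey ▸ (chQ_Z hf.au y ⟨hy.1, hy.2, h2⟩).1)
  have := (U5F.indep (α := s - s') (β := e - e') fun b => by
    obtain ⟨z, hz, rfl⟩ := su b
    have h1 := gr' _ (py z hz)
    rw [g2 _ (hf.au.mem z (YQ hz)), gr z hz] at h1
    linear_combination h1).2
  exact sub_eq_zero.1 this

end GrQa

open GrQa

theorem grQ (h : Two p u sQ sJ) (o : OppQ u) (ta : TorA u) (hq : 3 < Bar.q K) : GrQ u := by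
  have _ := h
  intro f hf k
  obtain ⟨s, e, hs, gr⟩ := (graph o hf k).2
  have c : {e | ∃ s, Gp u s e}.ncard ≤ Bar.q K := by
    refine clique ?_
    rintro e ⟨s, h1⟩ e' ⟨s', h2⟩ s₀ h3 h4
    by_contra ne
    have s0 : s₀ ≠ 0 := by
      rintro rfl
      exact ne (sub_eq_zero.1 (U5F.nrm0 (by rw [h4]; ring)))
    obtain ⟨a, ha, ea⟩ := U5F.exists_div (t := -(e - e') / s₀) (by
      rw [map_div₀, map_neg, h3]
      field_simp
      linear_combination h4)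
    have ha' : σ a ≠ 0 := (map_ne_zero σ).2 ha
    have hs : σ s = s := h1.choose_spec.2.2.1
    have hs' : σ s' = s' := h2.choose_spec.2.2.1
    refine ne (meet o h1 (shift (t := s₀ - s + s') h2 (by rw [map_add, map_sub, h3, hs, hs'])) ha ?_)
    field_simp at ea
    linear_combination ea
  have e0 : e = 0 := kappa hq c (fun e ⟨_, h1⟩ l hl => ⟨_, torus ta h1 hl⟩) ⟨s, f, hf, k, hs, gr⟩
  exact ⟨s, hs, fun y hy => by rw [gr y hy, e0, zero_mul, add_zero]⟩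

theorem GrQ.opp (h : GrQ u) (hf : Fa u sQ f) (k : ¬ PY f) :
    ∀ y ∈ (sY : Subgroup (US K)), (f y).a = 0 → y.c = 0 := by
  intro y hy ha
  obtain ⟨s, -, gr⟩ := h f hf k
  obtain ⟨g, hg, g1, -⟩ := hf.exists_inv
  have := chQ_Z hg.au (f y) ⟨ha, hf.au.mem y (YQ hy), by rw [gr y hy, ha, mul_zero]⟩
  rw [g1 y (YQ hy)] at this
  exact this.2.2

theorem lowQ (h : Two p u sQ sJ) (gr : GrQ u) (e : EssQ u) : LowQ u := by
  have o : OppQ u := fun f hf k => gr.opp hf k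
  obtain ⟨f, hf, k, c0⟩ : ∃ f, Fa u sQ f ∧ ¬ PY f ∧ ∀ y ∈ (sY : Subgroup (US K)), (f y).c = 0 := by
    obtain ⟨f, hf, k⟩ := e
    obtain ⟨s, hs, g⟩ := gr f hf k
    obtain ⟨f', hf', k', -, g'⟩ := shift (t := s) (e := 0) ⟨f, hf, k, hs, fun y hy => by rw [g y hy]; ring⟩ hs
    exact ⟨f', hf', k', fun y hy => by rw [g' y hy]; ring⟩
  obtain ⟨g, hg, g1, g2⟩ := hf.exists_inv
  have su := (graph o hf k).1
  have fa : ∀ (t : K) (ht : σ t = t), Fa u sQ fun x => f (Xb t ht * g x * (Xb t ht)⁻¹) := fun t ht =>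
    hf.comp ((Fa.conj u (Xb t ht) (nm_Q _)).comp hg)
  have key : ∀ t : {x : K // σ x = x}, ∃ m : {x : K // σ x = x}, ∀ x ∈ (sQ : Subgroup (US K)),
      (f (Xb t.1 t.2 * g x * (Xb t.1 t.2)⁻¹)).a = x.a + m.1 * x.c ∧
        (f (Xb t.1 t.2 * g x * (Xb t.1 t.2)⁻¹)).c = x.c := by
    rintro ⟨t, ht⟩
    have cc : ∀ x ∈ (sQ : Subgroup (US K)), (f (Xb t ht * g x * (Xb t ht)⁻¹)).c = x.c := by
      intro x hx
      have gb : (g x).b = 0 := hg.au.mem x hx
      obtain ⟨h1, h2, h3⟩ := cj_Q (Xb t ht) gb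
      have := (au_add hf.au (y := Xc (-((g x).a * t))) gb rfl h2 (by rw [h1]; simp) (by rw [h3]; simp; ring)).2
      rw [this, g2 x hx, c0 _ ⟨rfl, rfl⟩, add_zero]
    by_cases t0 : t = 0
    · subst t0
      refine ⟨⟨0, ht⟩, fun x hx => ⟨?_, cc x hx⟩⟩
      rw [show Xb (0 : K) ht = 1 from rfl]
      simp [g2 x hx]
    have np : ¬ PY fun x => f (Xb t ht * g x * (Xb t ht)⁻¹) := fun n =>
      k (p0Q h hf (s := Xb t ht) t0 (fa t ht) n fun a ha => by rw [g1 a ha])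
    obtain ⟨s, hs, gs⟩ := gr _ (fa t ht) np
    have s0 : s ≠ 0 := by
      rintro rfl
      have := gs (Xc 1) ⟨rfl, rfl⟩
      rw [cc _ rfl] at this
      simp at this
    refine ⟨⟨s⁻¹, by rw [map_inv₀, hs]⟩, fun x hx => ⟨?_, cc x hx⟩⟩
    obtain ⟨y, hy, ey⟩ := su x.a
    have h1 := (au_add (fa t ht).au (x := f y) (y := Xc x.c) (hf.au.mem y (YQ hy)) rfl hx (by simp [ey])
      (by simp [c0 y hy])).1
    have h2 := gs (Xc x.c) ⟨rfl, rfl⟩
    rw [cc _ rfl, Xc_c] at h2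
    rw [g1 y (YQ hy), m_J (x := Xb t ht) rfl hy.1, mul_inv_cancel_right, ey] at h1
    rw [h1]
    congr 1
    rw [eq_inv_mul_iff_mul_eq₀ s0]
    exact h2.symm
  choose m hm using key
  have inj : Function.Injective m := by
    intro t t' e
    obtain ⟨y, hy, n⟩ : ∃ y ∈ (sY : Subgroup (US K)), (g y).a ≠ 0 := by
      by_contra! n
      exact k (py_inv hg.au hf.au g2 fun y hy => ⟨n y hy, hg.au.mem y (YQ hy)⟩)
    have gb : (g y).b = 0 := hg.au.mem y (YQ hy)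
    have h1 := (au_modZ hg.au ((fa t.1 t.2).au.mem y (YQ hy)) ((fa t'.1 t'.2).au.mem y (YQ hy))
      (by rw [(hm t y (YQ hy)).1, (hm t' y (YQ hy)).1, e]) (by rw [(hm t y (YQ hy)).2, (hm t' y (YQ hy)).2])).2
    rw [g1 _ (nm_Q _ _ gb), g1 _ (nm_Q _ _ gb), (cj_Q _ gb).2.2, (cj_Q _ gb).2.2, Xb_b, Xb_b] at h1
    exact Subtype.ext (mul_left_cancel₀ n (by linear_combination -h1))
  intro s hs
  obtain ⟨t, ht⟩ := Finite.injective_iff_surjective.1 inj ⟨s, hs⟩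
  refine ⟨_, fa t.1 t.2, fun z hz => ?_, fun x hx => by simpa [ht] using hm t x hx⟩
  rw [← m_Z (chQ_Z hg.au z hz), mul_inv_cancel_right, g2 z hz.2.1]

end Cfsg.Agent.U4F
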