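import Cfsg.Agent.U4F.Ext
import Cfsg.Agent.U4F.Fld

/-! Project U4F: Lin.  See `notes/U4F.md`. -/

set_option autoImplicit false
set_option linter.unusedSectionVars false

namespace Cfsg.Agent.U4F

open U5F (Bar σ σσ card_K card_fix exists_q map_σ TF θT)
open US FK
open RFS (Au)
open scoped commutatorElement

variable {K : Type*} [Field K] [Bar K] {G : Type*} [Group G] [Finite G] {p : ℕ} [Fact p.Prime] [CharP K p]
  {u : US K →* G} {f g F : US K → US K} {E : Subgroup (US K)} {L : Subgroup G}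

theorem au_modZ (h : Au sQ f) {x y : US K} (hx : x.b = 0) (hy : y.b = 0) (ha : x.a = y.a) (hc : x.c = y.c) :
    (f x).a = (f y).a ∧ (f x).c = (f y).c := by
  have hz : x⁻¹ * y ∈ (sZ : Subgroup (US K)) := by simp [hx, hy, ha, hc]
  obtain ⟨z1, z2, z3⟩ := chQ_Z h _ hz
  have e : f y = f x * f (x⁻¹ * y) := by
    rw [← h.mul x hx _ hz.2.1, mul_inv_cancel_left]
  rw [e]
  simp [z1, z2, z3]

theorem au_add (h : Au sQ f) {x y w : US K} (hx : x.b = 0) (hy : y.b = 0) (hw : w.b = 0) (ha : w.a = x.a + y.a)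
    (hc : w.c = x.c + y.c) : (f w).a = (f x).a + (f y).a ∧ (f w).c = (f x).c + (f y).c := by
  have e := au_modZ h hw (y := x * y) (by simp [hx, hy]) (by simp [ha]) (by simp [hc, hy])
  have hb : (f y).b = 0 := h.mem y hy
  rw [h.mul x hx y hy] at e
  simpa [hb] using e

namespace Lin

/-- the alternating form on `Q / Z` -/
def om (x y : US K) : K := x.a * σ y.c + y.c * σ x.a - (y.a * σ x.c + x.c * σ y.a)

theorem om_fix (x y : US K) : σ (om x y) = om x y := by
  simp only [om, map_sub, map_add, map_mul, σσ]; ring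

open Classical in
/-- the map induced on `Z` -/
noncomputable def kz (f : US K → US K) (d : K) : K := if h : σ d = d then (f (Xd d h)).d else 0

theorem kz_eq (f : US K → US K) {z : US K} (hz : z ∈ (sZ : Subgroup (US K))) : (f z).d = kz f z.d := by
  have e : z = Xd z.d z.hd := by ext <;> simp [hz.1, hz.2.1, hz.2.2]
  rw [kz, dif_pos z.hd, ← e]

theorem kz_fix (f : US K → US K) (d : K) : σ (kz f d) = kz f d := by
  unfold kz
  split_ifs <;> simp

theorem kz_om (h : Au sQ f) {x y : US K} (hx : x.b = 0) (hy : y.b = 0) : om (f x) (f y) = kz f (om x y) := by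
  have e := kz_eq f (c_QQ hx hy)
  rw [h.map_comm hx hy, comm_Q (h.mem x hx) (h.mem y hy), comm_Q hx hy] at e
  exact e

theorem kz_add (h : Au sQ f) {d e : K} (hd : σ d = d) (he : σ e = e) : kz f (d + e) = kz f d + kz f e := by
  have z1 : Xd d hd ∈ (sZ : Subgroup (US K)) := by simp
  have z2 : Xd e he ∈ (sZ : Subgroup (US K)) := by simp
  have k := kz_eq f (mul_mem z1 z2)
  obtain ⟨a1, -, -⟩ := chQ_Z h _ z1
  rw [h.mul _ z1.2.1 _ z2.2.1] at k
  have k1 := kz_eq f z1
  have k2 := kz_eq f z2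
  simp only [mul_d, a1, Xd_a, Xd_b, Xd_c, Xd_d, map_zero, mul_zero, zero_mul, add_zero] at k k1 k2
  rw [← k, k1, k2]

theorem kz_inj (h : Au sQ f) {d e : K} (hd : σ d = d) (he : σ e = e) (k : kz f d = kz f e) : d = e := by
  have z1 : Xd d hd ∈ (sZ : Subgroup (US K)) := by simp
  have z2 : Xd e he ∈ (sZ : Subgroup (US K)) := by simp
  obtain ⟨a1, b1, c1⟩ := chQ_Z h _ z1
  obtain ⟨a2, b2, c2⟩ := chQ_Z h _ z2
  have k1 := kz_eq f z1
  have k2 := kz_eq f z2
  have := h.inj _ z1.2.1 _ z2.2.1 (US.ext (a1.trans a2.symm) (b1.trans b2.symm) (c1.trans c2.symm)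
    (k1.trans (k.trans k2.symm)))
  exact congrArg US.d this

theorem kz_one (h : Au sQ f) : kz f 1 ≠ 0 := fun e => by
  have h0 := kz_add h (map_zero (σ (K := K))) (map_zero (σ (K := K)))
  rw [add_zero, left_eq_add] at h0
  exact one_ne_zero (kz_inj h (map_one _) (map_zero _) (e.trans h0.symm))

theorem kz_mul (h : Au sQ f) {l d : K} (hl : σ l = l) (hd : σ d = d) :
    kz f (l * d) * kz f 1 = kz f l * kz f d := by
  obtain ⟨t, ht⟩ := U5F.exists_tr (map_one (σ (K := K)))
  have n := kz_one h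
  have e1 := kz_om h (x := Xa 1) (y := Xc t) rfl rfl
  have e2 := kz_om h (x := Xa l) (y := Xc t) rfl rfl
  rw [show om (Xa 1) (Xc t) = 1 by simp [om]; linear_combination ht] at e1
  rw [show om (Xa l) (Xc t) = l by simp [om, hl]; linear_combination l * ht] at e2
  obtain ⟨m, hm, em⟩ : ∃ m, σ m = m ∧ m * kz f 1 = kz f d :=
    ⟨kz f d / kz f 1, by rw [map_div₀, kz_fix, kz_fix], div_mul_cancel₀ _ n⟩
  obtain ⟨w, hw, ew⟩ := h.sur ⟨m * (f (Xc t)).a, 0, m * (f (Xc t)).c, 0, by simp, by simp⟩ rfl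
  have s : ∀ x, om x (f w) = m * om x (f (Xc t)) := fun x => by
    simp only [om, ew, map_mul, hm]; ring
  have e3 := kz_om h (x := Xa 1) (y := w) rfl hw
  have e4 := kz_om h (x := Xa l) (y := w) rfl hw
  rw [s, e1, em] at e3
  rw [s, e2, show om (Xa l) w = l * om (Xa 1) w by simp [om, hl]; ring, ← kz_inj h hd (om_fix _ _) e3] at e4
  rw [← e4, ← em]; ring

end Lin

open Lin

/-- automorphisms of `Q` are semilinear similitudes of `Q / Z` -/
theorem semi (h : Au sQ f) : ∃ (φ : K ≃+* K) (κ : K), κ ≠ 0 ∧ σ κ = κ ∧ (∀ z ∈ (sZ : Subgroup (US K)), (f z).d = κ * φ z.d) ∧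
    ∀ (x y : US K) (l : K), x.b = 0 → y.b = 0 → σ l = l → y.a = l * x.a → y.c = l * x.c →
      (f y).a = φ l * (f x).a ∧ (f y).c = φ l * (f x).c := by
  have n := kz_one h
  obtain ⟨φ, hφ⟩ := ext_aut (ψ := fun l => kz f l / kz f 1) (fun l _ => by rw [map_div₀, kz_fix, kz_fix])
    (fun l m hl hm => by rw [kz_add h hl hm, add_div])
    (fun l m hl hm => by field_simp; exact kz_mul h hl hm) (div_self n)
  have k : ∀ d, σ d = d → kz f d = kz f 1 * φ d := fun d hd => by rw [hφ d hd]; field_simp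
  refine ⟨φ, kz f 1, n, kz_fix f 1, fun z hz => (kz_eq f hz).trans (k _ z.hd), fun x y l hx hy hl ea ec => ?_⟩
  have hl' : σ (φ l) = φ l := by rw [← map_σ, hl]
  have s : ∀ w : US K, w.b = 0 → om (f y) w = φ l * om (f x) w := fun w hw => by
    obtain ⟨v, hv, rfl⟩ := h.sur w hw
    rw [kz_om h hy hv, kz_om h hx hv, k _ (om_fix _ _), k _ (om_fix _ _),
      show om y v = l * om x v by simp only [om, ea, ec, map_mul, hl]; ring, map_mul]
    ring
  constructor
  · refine sub_eq_zero.1 (U5F.indep (α := σ ((f y).a - φ l * (f x).a)) fun t => ?_).2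
    have := s (Xc t) rfl
    simp only [om, Xc_a, Xc_c, map_zero, mul_zero, zero_mul, add_zero, sub_zero] at this
    simp only [map_sub, map_mul, hl']
    linear_combination this
  · refine sub_eq_zero.1 (U5F.indep (α := σ ((f y).c - φ l * (f x).c)) fun t => ?_).2
    have := s (Xa t) rfl
    simp only [om, Xa_a, Xa_c, map_zero, mul_zero, zero_mul, add_zero] at this
    simp only [map_sub, map_mul, hl']
    linear_combination -this

theorem graph (o : OppQ u) (hf : Fa u sQ f) (k : ¬ PY f) : (∀ a : K, ∃ y ∈ (sY : Subgroup (US K)), (f y).a = a) ∧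
    ∃ s e : K, σ s = s ∧ ∀ y ∈ (sY : Subgroup (US K)), (f y).c = s * (f y).a + e * σ (f y).a := by
  have h := hf.au
  have ad : ∀ c c' : K, (f (Xc (c + c'))).a = (f (Xc c)).a + (f (Xc c')).a ∧
      (f (Xc (c + c'))).c = (f (Xc c)).c + (f (Xc c')).c := fun c c' => au_add h rfl rfl rfl (by simp) rfl
  have inj : Function.Injective fun c : K => (f (Xc c)).a := fun c c' e => by
    have h1 := (ad (c - c') c').1
    rw [sub_add_cancel] at h1
    have h2 : (f (Xc (c - c'))).a = 0 := by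
      have e' : (f (Xc c)).a = (f (Xc c')).a := e
      linear_combination e' - h1
    exact sub_eq_zero.1 (o f hf k (Xc (c - c')) (by simp) h2)
  have sur := Finite.surjective_of_injective inj
  refine ⟨fun a => (sur a).elim fun c e => ⟨Xc c, by simp, e⟩, ?_⟩
  choose B hB using sur
  have hB' : ∀ c, B (f (Xc c)).a = c := fun c => inj (hB _)
  obtain ⟨φ, κ, -, -, -, sl⟩ := semi h
  obtain ⟨α, β, e⟩ := U5F.flin (ψ := fun a => (f (Xc (B a))).c)
    (fun a a' => by
      have : B (a + a') = B a + B a' := inj (by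
        have := (ad (B a) (B a')).1
        simp only [hB] at this ⊢
        rw [this])
      simp only [this, (ad _ _).2])
    (fun l a hl => by
      have hl' : σ (φ.symm l) = φ.symm l := by rw [← map_σ, hl]
      have s := sl (Xc (B a)) (Xc (φ.symm l * B a)) (φ.symm l) rfl rfl hl' (by simp) rfl
      rw [φ.apply_symm_apply] at s
      have : B (l * a) = φ.symm l * B a := inj (by
        have := s.1
        simp only [hB] at this ⊢
        rw [this])
      simp only [this, s.2])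
  refine ⟨α, β, ?_, fun y hy => ?_⟩
  · obtain ⟨θ, hθ⟩ := U5F.exists_σ_ne K
    have c := kz_om h (x := Xc (B 1)) (y := Xc (B θ)) rfl rfl
    have h0 := kz_add h (map_zero (σ (K := K))) (map_zero (σ (K := K)))
    rw [add_zero, left_eq_add] at h0
    rw [show om (Xc (B 1)) (Xc (B θ)) = 0 by simp [om], h0] at c
    have e1 := e 1
    have e2 := e θ
    have b1 := hB 1
    have b2 := hB θ
    simp only at e1 e2 b1 b2
    simp only [om, e1, e2, b1, b2, map_add, map_mul, map_one, σσ] at c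
    have : (σ α - α) * (σ θ - θ) = 0 := by linear_combination c
    exact sub_eq_zero.1 ((mul_eq_zero.1 this).resolve_right (sub_ne_zero.2 hθ))
  · obtain ⟨m1, m2⟩ := au_modZ h (x := y) (y := Xc y.c) hy.2 rfl hy.1 rfl
    have := e (f (Xc y.c)).a
    simp only [hB'] at this
    rw [m1, m2, this]

theorem oppQ_two (h : Two p u sQ sJ) (hp : p = 2) : OppQ u := fun f hf k y hy ha => by
  by_contra n
  have two : (2 : K) = 0 := by
    have := CharP.cast_eq_zero K p
    rw [hp] at this
    exact_mod_cast this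
  obtain ⟨g, hg, e1, e2⟩ := hf.exists_inv
  obtain ⟨φ, κ, -, -, -, sl⟩ := semi hf.au
  have h1 : σ (1 : K) = 1 := map_one _
  have hη := hf.comp ((Fa.conj u (Xb 1 h1) (nm_Q _)).comp hg)
  refine k (p0Q h hf (s := Xb 1 h1) (by simp) hη (fun w hw => ⟨?_, hη.au.mem w hw.2⟩) fun a ha => by
    simp only [e1 a ha])
  have hx : (g w).b = 0 := hg.au.mem w hw.2
  have c : g w * y = y * g w := hf.au.inj _ (mul_mem hx hy.2) _ (mul_mem hy.2 hx) (by
    rw [hf.au.mul _ hx _ hy.2, hf.au.mul _ hy.2 _ hx, e2 w hw.2]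
    exact m_J hw.1 ha)
  have c2 := (comm_iff.1 c).2
  simp only [hy.1, hy.2, hx, map_zero, mul_zero, zero_mul, add_zero] at c2
  obtain ⟨l, hl, el⟩ := U5F.prop_of (y := (g w).a) n (by linear_combination c2 - ((g w).a * σ y.c) * two)
  obtain ⟨j1, j2, j3⟩ := cj_Q (Xb 1 h1) hx
  have s := (sl y (Xc (-l * y.c)) (-l) hy.2 rfl (by simp [hl]) (by simp [hy.1]) rfl).1
  have t := (au_add hf.au hx (y := Xc (-l * y.c)) rfl j2 (by simp) (by rw [j3, el]; simp; ring)).1
  show (f (Xb 1 h1 * g w * (Xb 1 h1)⁻¹)).a = 0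
  rw [t, s, ha, e2 w hw.2, hw.1]
  simp

end Cfsg.Agent.U4F
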