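import Cfsg.Agent.U4F.OppJ

/-! Project U4F: LowJ.  See `notes/U4F.md`. -/

set_option autoImplicit false
set_option linter.unusedSectionVars false

namespace Cfsg.Agent.U4F

open U5F (Bar σ σσ card_K card_fix exists_q map_σ TF θT)
open US FK
open RFS (Au)
open scoped commutatorElement

variable {K : Type*} [Field K] [Bar K] {G : Type*} [Group G] [Finite G] {p : ℕ} [Fact p.Prime] [CharP K p]
  {u : US K →* G} {f g F : US K → US K} {E : Subgroup (US K)} {L : Subgroup G}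

namespace LowJ

theorem Z_Y {z : US K} (h : z ∈ (sZ : Subgroup (US K))) : z ∈ (sY : Subgroup (US K)) := ⟨h.1, h.2.1⟩

theorem fZ (s : Sh u f 0) {z : US K} (hz : z ∈ (sZ : Subgroup (US K))) : f z = Xb (f z).b (f z).hb :=
  US.ext (s.fa.au.mem z hz.1) rfl (s.z z hz) (s.y z (Z_Y hz))

theorem fZ' (h : Two p u sQ sJ) (s : Sh u f 0) {b : K} (hb : σ b = b) :
    ∃ z ∈ (sZ : Subgroup (US K)), f z = Xb b hb := by
  obtain ⟨z, hz, rfl⟩ := oppJ_sur h s.fa s.np hb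
  exact ⟨z, hz, fZ s hz⟩

theorem fY (h : Two p u sQ sJ) (s : Sh u f 0) {x : US K} (hx : x.a = 0) (hd : x.d = 0) :
    ∃ y ∈ (sY : Subgroup (US K)), f y = x := by
  obtain ⟨ℓ, m, h1, h2, k⟩ := exists_pi h s.fa s.np
  obtain ⟨y, hy, e⟩ := (k ⟨0, x.b, x.c, -(ℓ x.c + m x.b), x.hb, by simp [h1, h2]⟩ rfl).2 (by simp)
  have := s.y y hy
  refine ⟨y, hy, US.ext ?_ ?_ ?_ (this.trans hd.symm)⟩ <;> rw [e]
  exact hx.symm

/-- the images of `Z` lie on the quadric -/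
theorem quad (h : Two p u sQ sJ) (s : Sh u f 0) (hg : Fa u sJ g) {z : US K} (hz : z ∈ (sZ : Subgroup (US K))) :
    (g z).b * (g z).d = (g z).c * σ (g z).c := by
  by_cases k : PZ g
  · rw [(k z hz).2.1, (k z hz).2.2, zero_mul, zero_mul]
  obtain ⟨t, ht⟩ := t2J h g f hg s.fa k s.np
  obtain ⟨z', hz', e⟩ := ht z hz
  obtain ⟨-, -, e1, e2⟩ := cj_J (Xa t) (hg.au.mem z hz.1)
  rw [e, s.z z' hz', Xa_a] at e1
  rw [e, s.y z' (Z_Y hz'), Xa_a, AddMonoidHom.zero_apply] at e2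
  have e3 : (g z).c = -(t * (g z).b) := by linear_combination -e1
  rw [e3] at e2 ⊢
  simp only [map_neg, map_mul, hb] at e2 ⊢
  linear_combination (-(g z).b) * e2

theorem step (h : Two p u sQ sJ) (s : Sh u f 0) (hg : Fa u sJ g) (e1 : ∀ a ∈ (sJ : Subgroup (US K)), g (f a) = a)
    (e2 : ∀ a ∈ (sJ : Subgroup (US K)), f (g a) = a) (t : K) : ∃ τ : K, ∀ x ∈ (sJ : Subgroup (US K)),
      f (Xa t * g x * (Xa t)⁻¹) = mu (Xa τ * mu x * (Xa τ)⁻¹) := by
  by_cases ht : t = 0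
  · refine ⟨0, fun x hx => ?_⟩
    have : (Xa 0 : US K) = 1 := rfl
    rw [ht, this, one_mul, inv_one, mul_one, e2 x hx, one_mul, mul_one, mu_mu hx]
  have hA := s.fa.comp ((Fa.conj u (Xa t) (nm_J _)).comp hg)
  generalize hA' : (fun x => f (Xa t * g x * (Xa t)⁻¹)) = A at hA
  have eA : ∀ x, f (Xa t * g x * (Xa t)⁻¹) = A x := congrFun hA'
  have dv : ∀ x ∈ (sJ : Subgroup (US K)), A x = f ⁅Xa t, g x⁆ * x := fun x hx => by
    rw [← eA, SR3.conj_eq_comm, s.fa.au.mul _ (c_top _ _).1 _ (hg.au.mem x hx), e2 x hx]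
  have Ad : ∀ x ∈ (sJ : Subgroup (US K)), (A x).d = x.d := fun x hx => by
    rw [dv x hx, mul_d, s.y _ (c_top _ _), mem_sJ.1 (s.fa.au.mem _ (c_top _ _).1)]; simp
  have Ab : ∀ (b : K) (hb : σ b = b), A (Xb b hb) = Xb b hb := fun b hb => by
    obtain ⟨z, hz, e⟩ := fZ' h s hb
    rw [← e, ← eA, e1 z hz.1, ← m_Z hz, mul_inv_cancel_right]
  have Ac : ∀ c : K, (A (Xc c)).c = c := fun c => by
    obtain ⟨y, hy, e⟩ := fY h s (x := Xc c) rfl rfl
    have m : ⁅Xa t, g (Xc c)⁆ ∈ (sZ : Subgroup (US K)) := by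
      rw [← e, e1 y hy.1, ← commutatorElement_inv]; exact inv_mem (c_Y hy _)
    rw [dv _ rfl, mul_c, s.z _ m]; simp
  have np : ¬ PZ A := fun k => s.np (p0J h s.fa (s := Xa t) ht hA k fun a ha => by rw [← eA, e1 a ha])
  obtain ⟨a, ha⟩ := t2J h f A s.fa hA s.np np
  have key : ∀ (b : K) (hb : σ b = b), ∃ z ∈ (sZ : Subgroup (US K)), z.d = b * (a * σ a) ∧ (A z).b = b ∧
      (A z).c = a * b := fun b hb => by
    obtain ⟨z, hz, e⟩ := fZ' h s hb
    obtain ⟨z', hz', e'⟩ := ha z hz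
    refine ⟨z', hz', ?_, ?_, ?_⟩
    · rw [← Ad z' hz'.1, ← e', e]; simp
    · rw [← e', e]; simp
    · rw [← e', e]; simp
  have a0 : a ≠ 0 := by
    rintro rfl
    obtain ⟨z, hz, k1, k2, -⟩ := key 1 (map_one σ)
    have : z = 1 := US.ext hz.1 hz.2.1 hz.2.2 (by simpa using k1)
    rw [this, hA.au.one] at k2
    exact zero_ne_one k2
  have a1 : σ a ≠ 0 := by simpa using a0
  have AZ : ∀ (d : K) (hd : σ d = d), (A (Xd d hd)).b = d / (a * σ a) ∧ (A (Xd d hd)).c = d / σ a := fun d hd => by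
    obtain ⟨z, hz, k1, k2, k3⟩ := key (d / (a * σ a)) (by simp [hd, mul_comm])
    have : z = Xd d hd := US.ext hz.1 hz.2.1 hz.2.2 (by rw [k1, Xd_d]; field_simp)
    rw [← this, k2, k3]
    exact ⟨rfl, by field_simp⟩
  have all : ∀ x ∈ (sJ : Subgroup (US K)), (A x).b = x.b + (A (Xc x.c)).b + x.d / (a * σ a) ∧
      (A x).c = x.c + x.d / σ a := fun x hx => by
    have e : x = Xb x.b x.hb * Xc x.c * Xd x.d x.hd := by ext <;> simp [mem_sJ.1 hx]
    have e' := congrArg A e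
    rw [hA.au.mul _ (by simp) _ rfl, hA.au.mul _ rfl _ rfl, Ab] at e'
    rw [e']
    simp [Ac, AZ, mem_sJ.1 (hA.au.mem (Xc x.c) rfl)]
  have β : ∀ c : K, (A (Xc c)).b = c / a + σ c / σ a := fun c => by
    by_cases c0 : c = 0
    · rw [c0, show (Xc 0 : US K) = 1 from rfl, hA.au.one]; simp
    obtain ⟨z, hz, e⟩ := fZ' h s (map_one σ)
    have q := quad h s (hA.comp ((Fa.conj u (Xa c) (nm_J _)).comp s.fa)) hz
    have m : Xa c * f z * (Xa c)⁻¹ ∈ (sJ : Subgroup (US K)) := nm_J _ _ (s.fa.au.mem z hz.1)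
    obtain ⟨-, k1, k2, k3⟩ := cj_J (Xa c) (s.fa.au.mem z hz.1)
    simp only [(all _ m).1, (all _ m).2, Ad _ m, k1, k2, k3] at q
    simp only [e, Xb_b, Xb_c, Xb_d, Xa_a, map_zero, mul_zero, zero_mul, zero_add, mul_one, one_mul, map_add, map_div₀,
      map_mul, σσ] at q
    have c1 : σ c ≠ 0 := by simpa using c0
    refine mul_right_cancel₀ (mul_ne_zero c0 c1) ?_
    linear_combination (exp := 1) q
  refine ⟨-a⁻¹, fun x hx => ?_⟩
  rw [eA]
  refine US.ext (hA.au.mem x hx) ?_ ?_ ?_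
  · rw [(all x hx).1, β, mu_b, (cj_J _ (mu_a x)).2.2.2]; simp; field_simp; ring
  · rw [(all x hx).2, mu_c, (cj_J _ (mu_a x)).2.2.1]; simp; field_simp; ring
  · rw [Ad x hx, mu_d, (cj_J _ (mu_a x)).2.1, mu_b]

end LowJ

theorem Sh.low (h : Two p u sQ sJ) (s : Sh u f 0) : LowJ u := by
  obtain ⟨g, hg, e1, e2⟩ := s.fa.exists_inv
  choose τ hτ using LowJ.step h s hg e1 e2
  have hi : Function.Injective τ := fun t t' e => by
    have m : (Xb 1 (map_one σ) : US K) ∈ (sJ : Subgroup (US K)) := rfl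
    have k := hτ t _ (s.fa.au.mem _ m)
    rw [e, ← hτ t' _ (s.fa.au.mem _ m), e1 _ m] at k
    simpa using congrArg US.c (s.fa.au.inj _ (nm_J _ _ m) _ (nm_J _ _ m) k)
  intro t
  obtain ⟨t, rfl⟩ := Finite.surjective_of_injective hi t
  exact (s.fa.comp ((Fa.conj u (Xa t) (nm_J _)).comp hg)).ind.congr (hτ t)

end Cfsg.Agent.U4F
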