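import Cfsg.Agent.U4F.Chr
import Cfsg.Agent.U5F.ModB

/-! Project U4F: extension of the model.  See `notes/U4F.md`. -/

set_option autoImplicit false
set_option linter.unusedSectionVars false

namespace Cfsg.Agent.U4F

open U5F (Bar σ σσ card_K card_fix exists_q map_σ TF θT)
open US FK
open RFS (Au)
open scoped commutatorElement

universe w

variable {K : Type w} [Field K] [Bar K] {p : ℕ} [Fact p.Prime] [CharP K p]

theorem ModB.act_Q (k : TF K) {a : US K} (h : a ∈ (sQ : Subgroup (US K))) : act k a ∈ (sQ : Subgroup (US K)) := by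
  simp [act_apply, mem_sQ.1 h]

theorem ModB.act_Y (k : TF K) {a : US K} (h : a ∈ (sY : Subgroup (US K))) : act k a ∈ (sY : Subgroup (US K)) := by
  simp [act_apply, h.1, h.2]

theorem ModB.act_act (k : TF K) (a : US K) : act k⁻¹ (act k a) = a := by
  rw [← MulAut.mul_apply, ← map_mul, inv_mul_cancel, map_one, MulAut.one_apply]

open SemidirectProduct ModB in
theorem model_ext {G₀ : Type w} [Group G₀] [Finite G₀] {u₀ : US K →* G₀} {θ : TF K →* MulAut G₀} (h : Md p u₀ θ)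
    (X : Subgroup (TF K)) (hX : ¬ p ∣ Nat.card X) (hT : ∀ k, In u₀ ⊤ (act k) → k ∈ X) :
    ∃ (G : Type w) (_ : Group G) (_ : Finite G) (u : US K →* G), Sat p u ∧ Std u ∧ Tor0 u ∧ In u sJ mu ∧ In u sQ nu ∧
      GrQ u ∧ ¬ p ∣ u.range.index ∧ ∀ k, In u ⊤ (act k) ↔ k ∈ X := by
  have : Finite X := Nat.finite_of_card_ne_zero fun e => hX (e ▸ dvd_zero p)
  have : Finite (G₀ ⋊[θ.comp X.subtype] X) := Finite.of_equiv _ equivProd.symm
  let u : US K →* G₀ ⋊[θ.comp X.subtype] X := inl.comp u₀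
  have k0 : ∀ (A : Subgroup (US K)) (F : US K → US K), In u₀ A F → In u A F := fun A F ⟨g, e⟩ =>
    ⟨inl g, fun a ha => by
      change inl g * inl _ * _ = inl _
      rw [← e a ha, map_mul, map_mul, map_inv]⟩
  have k1 : ∀ (g : G₀ ⋊[θ.comp X.subtype] X) a,
      g * u a * g⁻¹ = inl (g.left * u₀ (act (g.right : TF K) a) * g.left⁻¹) := fun g a => by
    rw [← h.act, map_mul, map_mul, map_inv]
    refine Eq.trans ?_ (congrArg (fun x => inl g.left * x * (inl g.left)⁻¹) (inl_aut g.right (u₀ a)).symm)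
    conv_lhs => rw [← inl_left_mul_inr_right g]
    simp only [map_inv, mul_inv_rev, mul_assoc]
    rfl
  have k2 : ∀ (A : Subgroup (US K)) F, (∀ k, ∀ a ∈ A, act k a ∈ A) → In u A F →
      ∃ x ∈ X, In u₀ A fun a => F (act x⁻¹ a) := by
    rintro A F hA ⟨g, e⟩
    refine ⟨g.right, g.right.2, g.left, fun a ha => ?_⟩
    have h1 := inl_injective ((k1 g (act (g.right : TF K)⁻¹ a)).symm.trans (e _ (hA _ a ha)))
    rwa [← MulAut.mul_apply, ← map_mul, mul_inv_cancel, map_one, MulAut.one_apply] at h1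
  have k3 : ¬ p ∣ u.range.index := by
    rw [← MonoidHom.map_range, Subgroup.index_map_of_injective _ inl_injective, range_inl_eq_ker_rightHom,
      Subgroup.index_ker, MonoidHom.range_eq_top.2 rightHom_surjective, Subgroup.card_top]
    exact fun e => ((Fact.out : p.Prime).dvd_mul.1 e).elim h.syl hX
  have k4 : IsPGroup p u.range := u.range_eq_map ▸ ((pg_US p).to_subgroup ⊤).map u
  refine ⟨_, inferInstance, this, u, ⟨pg_US p, inl_injective.comp h.inj, H92.saturated_group (k4.toSylow k3)⟩,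
    fun F hF => ?_, fun t₁ t₂ h1 h2 h3 => k0 _ _ (h.tor t₁ t₂ h1 h2 h3), k0 _ _ h.mu, k0 _ _ h.nu,
    fun f hf hn => ?_, k3, fun k => ⟨fun e => ?_, fun e => ⟨inr ⟨k, e⟩, fun a _ => ?_⟩⟩⟩
  · obtain ⟨x, -, e⟩ := k2 ⊤ F (fun _ _ _ => trivial) hF.ind
    obtain ⟨s, t₁, t₂, h1, h2, -, e1⟩ := h.nm _ ⟨hF.au.comp (Au.equiv (act x⁻¹)), e⟩
    refine ⟨s, t₁ / t₂ * x.left.1, t₂ * x.left.2, x.right,
      mul_ne_zero (div_ne_zero h1 h2) (Units.ne_zero _), mul_ne_zero h2 (Units.ne_zero _), fun a => ?_⟩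
    have e2 := e1 (act x a)
    rwa [act_act, act_apply, tor_tor] at e2
  · obtain ⟨x, -, e⟩ := k2 sQ f (fun k _ ha => act_Q k ha) hf.ind
    obtain ⟨s, hs, e1⟩ := h.gr _ ⟨hf.au.comp ((Au.equiv (act x⁻¹)).res le_top fun _ ha => act_Q _ ha), e⟩
      fun c => hn fun y hy => by simpa only [act_act] using c _ (act_Y x hy)
    refine ⟨s, hs, fun y hy => ?_⟩
    have := e1 _ (act_Y x hy)
    rwa [act_act] at this
  · obtain ⟨x, hx, e1⟩ := k2 ⊤ _ (fun _ _ _ => trivial) e
    have := mul_mem (hT (k * x⁻¹) (e1.congr fun a _ => by rw [map_mul, MulAut.mul_apply])) hx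
    rwa [inv_mul_cancel_right] at this
  · rw [k1, left_inr, right_inr, one_mul, inv_one, mul_one]; rfl

end Cfsg.Agent.U4F
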