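import Cfsg.Agent.U4F.Lin
import Cfsg.Agent.FK.Uniq

/-! Project U4F: the torus and the Weyl element on `Q`.  See `notes/U4F.md`. -/

set_option autoImplicit false
set_option linter.unusedSectionVars false

namespace Cfsg.Agent.U4F

open U5F (Bar σ σσ card_K card_fix exists_q map_σ TF θT)
open US FK
open RFS (Au)
open scoped commutatorElement

variable {K : Type*} [Field K] [Bar K] {G : Type*} [Group G] [Finite G] {p : ℕ} [Fact p.Prime] [CharP K p]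
  {u : US K →* G} {f g F : US K → US K} {E : Subgroup (US K)} {L : Subgroup G}

namespace NuQ

theorem xaQ (t : K) : Xa t ∈ (sQ : Subgroup (US K)) := rfl
theorem xcQ (t : K) : Xc t ∈ (sQ : Subgroup (US K)) := rfl
theorem ZQ {y : US K} (h : y ∈ (sZ : Subgroup (US K))) : y ∈ (sQ : Subgroup (US K)) := h.2.1

/-- the data of an automorphism of `Q` that is diagonal on `Q / Z` -/
theorem diag (c : Cx p u) (hf : Fa u sQ f) {l m : K}
    (e : ∀ x ∈ (sQ : Subgroup (US K)), (f x).a = l * x.a ∧ (f x).c = m * x.c) :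
    ∃ s ∈ (sQ : Subgroup (US K)), ∃ t : K, l * (t * σ t) = m ∧ In u ⊤ (tor l t) ∧
      ∀ a ∈ (sQ : Subgroup (US K)), f a = s * tor l t a * s⁻¹ := by
  obtain ⟨s, r, t, φ, hr, -, hi, k⟩ := c.decQ hf fun y hy =>
    ⟨by rw [(e y hy.2).1, hy.1, mul_zero], hf.au.mem y hy.2⟩
  have hQ : ∀ x : US K, x.b = 0 → (tor r t (fld φ x)).b = 0 := fun x hx => by simp [hx]
  have ha : ∀ a : K, r * φ a = l * a ∧ r * φ a * s.b = 0 := fun a => by
    obtain ⟨h1, -, h3⟩ := cj_Q s (hQ _ (xaQ a))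
    obtain ⟨h4, h5⟩ := e _ (xaQ a)
    rw [← k _ (xaQ a)] at h1 h3
    simp only [tor_a, tor_c, fld_a, fld_c, Xa_a, Xa_c, map_zero] at h1 h3 h4 h5
    exact ⟨h1.symm.trans h4, by linear_combination h3 - h5⟩
  have hl : r = l := by simpa using (ha 1).1
  subst hl
  have hφ : ∀ a, φ a = a := fun a => mul_left_cancel₀ hr (ha a).1
  have hb : s.b = 0 := by simpa [hr] using (ha 1).2
  have hφ' : ∀ x : US K, fld φ x = x := fun x => by
    ext <;> simp only [fld_a, fld_b, fld_c, fld_d, hφ]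
  refine ⟨s, hb, t, ?_, hi.congr fun a _ => by rw [hφ'], fun a ha => by rw [k a ha, hφ']⟩
  have h2 := (cj_Q s (hQ _ (xcQ 1))).2.2
  rw [← k _ (xcQ 1), (e _ (xcQ 1)).2] at h2
  simpa using h2.symm

/-- an automorphism that is trivial on `Q / Z` is inner -/
theorem inner (c : Cx p u) (hf : Fa u sQ f) (e : ∀ x ∈ (sQ : Subgroup (US K)), (f x).a = x.a ∧ (f x).c = x.c) :
    ∃ s ∈ (sQ : Subgroup (US K)), ∀ a ∈ (sQ : Subgroup (US K)), f a = s * a * s⁻¹ := by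
  obtain ⟨s, hs, t, ht, -, k⟩ := diag (l := 1) (m := 1) c hf (by simpa using e)
  rw [one_mul] at ht
  refine ⟨s, hs, fun a ha => ?_⟩
  rw [k a ha]
  congr 2
  ext <;> simp [ht]

variable (K) in
theorem exists_lam : ∃ l : K, l * σ l = 1 ∧ l ^ 2 ≠ 1 := by
  have : ∃ θ : K, σ θ ≠ θ ∧ σ θ ≠ -θ := by
    obtain ⟨θ, hθ⟩ := U5F.exists_σ_ne K
    by_cases h : σ θ = -θ
    · refine ⟨θ + 1, fun k => hθ (by simpa using k), fun k => hθ ?_⟩
      rw [map_add, map_one, h] at k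
      rw [h]
      linear_combination (-θ) * k
    · exact ⟨θ, hθ, h⟩
  obtain ⟨θ, h1, h2⟩ := this
  have h0 : θ ≠ 0 := fun h => h1 (by simp [h])
  have s0 : σ θ ≠ 0 := by simpa using h0
  refine ⟨θ / σ θ, by rw [map_div₀, σσ]; field_simp, fun k => ?_⟩
  field_simp at k
  rcases mul_eq_zero.1 (show (σ θ - θ) * (σ θ + θ) = 0 by linear_combination -k) with h | h
  · exact h1 (sub_eq_zero.1 h)
  · exact h2 (eq_neg_of_add_eq_zero_left h)

/-- the torus of `SL₂(q²)` -/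
abbrev τ (t : K) : US K → US K := tor (t ^ 2) t⁻¹

theorem ne0 {t : K} (ht : t * σ t = 1) : t ≠ 0 := fun h => by simp [h] at ht

theorem nrm_inv {t : K} (ht : t * σ t = 1) : t⁻¹ * σ t⁻¹ = 1 := by rw [map_inv₀, ← mul_inv, ht, inv_one]

theorem τ_fa (ta : TorA u) {t : K} (ht : t ≠ 0) : Fa u sQ (τ t) :=
  (fa_tor (pow_ne_zero 2 ht) (inv_ne_zero ht) (ta t ht)).2

theorem τ_coord {t : K} (ht : t * σ t = 1) (x : US K) : (τ t x).a = t ^ 2 * x.a ∧ (τ t x).b = x.b ∧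
    (τ t x).c = t ^ 2 * x.c ∧ (τ t x).d = x.d := by
  refine ⟨rfl, ?_, ?_, ?_⟩
  · rw [τ, tor_b, nrm_inv ht, one_mul]
  · rw [τ, tor_c, nrm_inv ht, mul_one]
  · rw [τ, tor_d, nrm_inv ht, map_pow, ← mul_pow, ht]; ring

theorem τ_Z {t : K} (ht : t * σ t = 1) {z : US K} (hz : z ∈ (sZ : Subgroup (US K))) : τ t z = z := by
  obtain ⟨h1, h2, h3⟩ := hz
  obtain ⟨k1, k2, k3, k4⟩ := τ_coord ht z
  ext
  · rw [k1, h1, mul_zero]
  · exact k2
  · rw [k3, h3, mul_zero]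
  · exact k4

theorem τ_τ {t : K} (ht : t ≠ 0) (x : US K) : τ t⁻¹ (τ t x) = x := by
  rw [τ, τ, tor_tor, show t⁻¹ ^ 2 * t ^ 2 = 1 by field_simp, show t⁻¹⁻¹ * t⁻¹ = 1 by field_simp, tor_one]

theorem nui_τ {t : K} (ht : t * σ t = 1) (x : US K) : nui (τ t x) = τ t (nui x) := by
  obtain ⟨h1, -, h3, h4⟩ := τ_coord ht x
  obtain ⟨h5, h6, h7, h8⟩ := τ_coord ht (nui x)
  ext
  · rw [h5, nui_a, nui_a, h3]; ring
  · rw [h6, nui_b, nui_b]
  · rw [h7, nui_c, nui_c, h1]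
  · rw [h8, nui_d, nui_d, h4, h1, h3, map_mul, map_mul, map_pow]
    linear_combination (-(x.a * σ x.c + x.c * σ x.a) * (t * σ t + 1)) * ht

theorem nui_mem (x : US K) : nui x ∈ (sQ : Subgroup (US K)) := rfl

theorem au_nui : Au sQ (nui : US K → US K) :=
  .of_inj (fun x _ => nui_mem x) (fun x _ y hy => by
    have h2 : y.b = 0 := hy
    ext <;> simp [h2] <;> ring) fun x hx y hy e => by rw [← nu_nui hx, e, nu_nui hy]

end NuQ

theorem LowQ.exists_w (h : LowQ u) {l : K} (hl : l ≠ 0) (hs : σ l = l) : ∃ w, Fa u sQ w ∧ (∀ z ∈ (sZ : Subgroup (US K)), w z = z) ∧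
    ∀ x ∈ (sQ : Subgroup (US K)), (w x).a = l * x.c ∧ (w x).c = -(x.a / l) := by
  obtain ⟨f, hf, hz, e⟩ := h l hs
  have hi : σ l⁻¹ = l⁻¹ := by rw [map_inv₀, hs]
  have hb := Fa.conj u (Xb l⁻¹ hi) (nm_Q (Xb l⁻¹ hi))
  have cz : ∀ z ∈ (sZ : Subgroup (US K)), Xb l⁻¹ hi * z * (Xb l⁻¹ hi)⁻¹ = z := fun z k => by
    rw [← m_Z k, mul_inv_cancel_right]
  refine ⟨_, hb.comp (hf.comp hb), fun z k => by rw [cz z k, hz z k, cz z k], fun x hx => ?_⟩
  have m1 := hb.au.mem x hx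
  obtain ⟨a1, -, a2⟩ := cj_Q (Xb l⁻¹ hi) (x := x) hx
  obtain ⟨b1, b2⟩ := e _ m1
  obtain ⟨c1, -, c2⟩ := cj_Q (Xb l⁻¹ hi) (hf.au.mem _ m1)
  beta_reduce at *
  constructor
  · rw [c1, b1, a1, a2, Xb_b]; field_simp; ring
  · rw [c2, b1, b2, a1, a2, Xb_b]; field_simp; ring

theorem Cx.torB (c : Cx p u) (h : LowQ u) : TorB u := fun l hl hs => by
  obtain ⟨w₁, f1, -, e1⟩ := h.exists_w (inv_ne_zero hl) (by rw [map_inv₀, hs])
  obtain ⟨w₂, f2, -, e2⟩ := h.exists_w (l := -1) (by simp) (by simp)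
  obtain ⟨s, -, t, ht, hi, -⟩ := NuQ.diag (l := l⁻¹) (m := l) c (f1.comp f2) fun x hx => by
    obtain ⟨a1, a2⟩ := e1 _ (f2.au.mem x hx)
    obtain ⟨b1, b2⟩ := e2 x hx
    constructor
    · rw [a1, b2]; field_simp
    · rw [a2, b1]; field_simp
  have hN : t * σ t = l * σ l := by
    rw [hs]
    field_simp at ht
    linear_combination ht
  exact hi.congr fun a _ => by ext <;> simp only [tor_a, tor_b, tor_c, tor_d, hN]

theorem Cx.nuQ (c : Cx p u) (ta : TorA u) (h : LowQ u) : In u sQ nu := by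
  obtain ⟨f, hf, hz, e'⟩ := h.exists_w (l := 1) one_ne_zero (map_one _)
  have e : ∀ x ∈ (sQ : Subgroup (US K)), (f x).a = x.c ∧ (f x).c = -x.a := fun x hx => by simpa using e' x hx
  obtain ⟨θ, hN, h1⟩ := NuQ.exists_lam K
  have h0 := NuQ.ne0 hN
  obtain ⟨g, hg, gf, fg⟩ := hf.exists_inv
  have eg : ∀ x ∈ (sQ : Subgroup (US K)), (g x).a = -x.c ∧ (g x).c = x.a := fun x hx => by
    obtain ⟨k1, k2⟩ := e _ (hg.au.mem x hx)
    rw [fg x hx] at k1 k2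
    exact ⟨by rw [k2, neg_neg], k1.symm⟩
  have t1 := NuQ.τ_fa ta h0
  have t2 := NuQ.τ_fa ta (inv_ne_zero h0)
  obtain ⟨s, hs, es⟩ := NuQ.inner c (hf.comp (t1.comp (hg.comp t2))) fun x hx => by
    have m1 := t2.au.mem x hx
    have m2 := hg.au.mem _ m1
    obtain ⟨a1, a2⟩ := e _ (t1.au.mem _ m2)
    obtain ⟨b1, -, b2, -⟩ := NuQ.τ_coord hN (g (NuQ.τ θ⁻¹ x))
    obtain ⟨c1, c2⟩ := eg _ m1
    obtain ⟨d1, -, d2, -⟩ := NuQ.τ_coord (NuQ.nrm_inv hN) x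
    constructor
    · rw [a1, b2, c2, d1]; field_simp
    · rw [a2, b1, c1, d2]; field_simp
  have hω : Au sQ fun a => nui (f a) := NuQ.au_nui.comp hf.au
  have hZ : ∀ z : US K, z ∈ (sZ : Subgroup (US K)) ↔ z ∈ (sQ : Subgroup (US K)) ∧
      ∀ a ∈ (sQ : Subgroup (US K)), z * a = a * z := fun z =>
    ⟨fun h => ⟨NuQ.ZQ h, fun a _ => m_Z h a⟩, fun h => cz_Q h.2⟩
  have hfix : ∀ b ∈ (sQ : Subgroup (US K)), b⁻¹ * NuQ.τ θ b ∈ (sZ : Subgroup (US K)) →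
      b ∈ (sZ : Subgroup (US K)) := fun b hb k => by
    have hb' : b.b = 0 := hb
    obtain ⟨c1, c2, c3, -⟩ := NuQ.τ_coord hN b
    obtain ⟨k1, -, k3⟩ := k
    rw [mul_a, inv_a, c1] at k1
    rw [mul_c, inv_c, inv_a, c2, c3, hb'] at k3
    exact ⟨(mul_eq_zero.1 (show (θ ^ 2 - 1) * b.a = 0 by linear_combination k1)).resolve_left (sub_ne_zero.2 h1), hb,
      (mul_eq_zero.1 (show (θ ^ 2 - 1) * b.c = 0 by linear_combination k3)).resolve_left (sub_ne_zero.2 h1)⟩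
  obtain ⟨b, hb, eb⟩ := rigid (J := Unit) (t := fun _ => NuQ.τ θ) (k₀ := ()) hω (fun _ => t1.au) hZ
    (fun _ _ _ _ => rfl) hfix fun _ => ⟨nui s, NuQ.nui_mem s, fun a ha => by
      have m := t1.au.mem _ (hf.au.mem a ha)
      have := es _ m
      rw [NuQ.τ_τ h0, gf a ha] at this
      rw [this, NuQ.au_nui.map_conj hs m, NuQ.nui_τ hN]⟩
  have w : Au sQ fun a => b * nui (f a) * b⁻¹ := (Au.conj b (nm_Q b)).comp hω
  have wz : ∀ z ∈ (sZ : Subgroup (US K)), b * nui (f z) * b⁻¹ = z := fun z k => by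
    have : nui z = z := by
      obtain ⟨k1, k2, k3⟩ := k
      ext <;> simp [k1, k2, k3]
    rw [hz z k, this, ← m_Z k b, mul_inv_cancel_right]
  have wid : ∀ x ∈ (sQ : Subgroup (US K)), b * nui (f x) * b⁻¹ = x := fun x hx => by
    obtain ⟨d, hd, z, hz', rfl⟩ := lang t1.au (fun z k => NuQ.ZQ k) (fun z k a _ => m_Z k a) hfix hx
    obtain ⟨z', k', e'⟩ : ∃ z' ∈ (sZ : Subgroup (US K)), b * nui (f d) * b⁻¹ = d * z' := by
      refine ⟨d⁻¹ * (b * nui (f d) * b⁻¹), ?_, by group⟩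
      obtain ⟨a1, a2, a3⟩ := cj_Q b (x := nui (f d)) rfl
      obtain ⟨b1, b2⟩ := e d hd
      have hd' : d.b = 0 := hd
      have hb' : b.b = 0 := hb
      refine ⟨?_, ?_, ?_⟩
      · rw [mul_a, a1, inv_a, nui_a, b2]; ring
      · rw [mul_b, a2, inv_b, hd']; ring
      · rw [mul_c, a2, a3, inv_c, nui_c, b1, hd', hb']; ring
    have k1 := w.mul _ (mul_mem (inv_mem hd) (t1.au.mem d hd)) _ (NuQ.ZQ hz')
    have k2 := w.mul _ (inv_mem hd) _ (t1.au.mem d hd)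
    have k3 := w.map_inv hd
    have k4 := eb () d hd
    beta_reduce at k1 k2 k3 k4
    rw [k1, k2, k3, k4, wz z hz', e', t1.au.mul _ hd _ (NuQ.ZQ k'), NuQ.τ_Z hN k', mul_inv_rev,
      ← m_Z k' (NuQ.τ θ d), m_Z (inv_mem k') d⁻¹]
    group
  refine (hf.ind.comp (In.conj u sQ b) (nm_Q b)).congr fun y hy => ?_
  have := wid _ (nm_Q b y hy)
  rw [← nu_nui (hf.au.mem _ (nm_Q b y hy)), mul_left_cancel (mul_right_cancel this)]

end Cfsg.Agent.U4F
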