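import Cfsg.Agent.U4F.Lin

/-! Project U4F: OppQ.  See `notes/U4F.md`. -/

set_option autoImplicit false
set_option linter.unusedSectionVars false

namespace Cfsg.Agent.U4F

open U5F (Bar σ σσ card_K card_fix exists_q map_σ TF θT)
open US FK
open RFS (Au)
open scoped commutatorElement

variable {K : Type*} [Field K] [Bar K] {G : Type*} [Group G] [Finite G] {p : ℕ} [Fact p.Prime] [CharP K p]
  {u : US K →* G} {f g F : US K → US K} {E : Subgroup (US K)} {L : Subgroup G}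

namespace OppQ

/-- the element of `Q` with given coordinates -/
@[simps] def qq (a c : K) : US K := ⟨a, 0, c, 0, by simp, by simp⟩

/-- `f` is `φ`-semilinear on `Q / Z` -/
def SL (f : US K → US K) (φ : K ≃+* K) : Prop :=
  ∀ (x y : US K) (l : K), x.b = 0 → y.b = 0 → σ l = l → y.a = l * x.a → y.c = l * x.c →
      (f y).a = φ l * (f x).a ∧ (f y).c = φ l * (f x).c

theorem lin3 (h : Au sQ f) {φ : K ≃+* K} (s : SL f φ) {x y z w : US K} {l m n : K} (hx : x.b = 0) (hy : y.b = 0)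
    (hz : z.b = 0) (hw : w.b = 0) (hl : σ l = l) (hm : σ m = m) (hn : σ n = n)
    (ha : w.a = l * x.a + m * y.a + n * z.a) (hc : w.c = l * x.c + m * y.c + n * z.c) :
    (f w).a = φ l * (f x).a + φ m * (f y).a + φ n * (f z).a ∧
      (f w).c = φ l * (f x).c + φ m * (f y).c + φ n * (f z).c := by
  have h1 := s x (qq (l * x.a) (l * x.c)) l hx rfl hl rfl rfl
  have h2 := s y (qq (m * y.a) (m * y.c)) m hy rfl hm rfl rfl
  have h3 := s z (qq (n * z.a) (n * z.c)) n hz rfl hn rfl rfl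
  have h4 := au_add h (x := qq (l * x.a) (l * x.c)) (y := qq (m * y.a) (m * y.c))
    (w := qq (l * x.a + m * y.a) (l * x.c + m * y.c)) rfl rfl rfl rfl rfl
  have h5 := au_add h (x := qq (l * x.a + m * y.a) (l * x.c + m * y.c)) (y := qq (n * z.a) (n * z.c))
    (w := w) rfl rfl hw ha hc
  exact ⟨by rw [h5.1, h4.1, h1.1, h2.1, h3.1], by rw [h5.2, h4.2, h1.2, h2.2, h3.2]⟩

theorem basis {ε c : K} (h2 : (2 : K) ≠ 0) (e0 : ε ≠ 0) (he : σ ε = -ε) (hc : c ≠ 0) (t : K) :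
    ∃ l m : K, σ l = l ∧ σ m = m ∧ t = m * (ε * c) + l * c := by
  obtain ⟨l, m, hl, hm, e⟩ := U5F.exists_basis (θ := ε) (fun k => e0 (U5F.skew_fix h2 he k)) (t / c)
  exact ⟨l, m, hl, hm, by rw [div_eq_iff hc] at e; rw [e]; ring⟩

theorem key (h : Au sQ f) (np : ¬ PY f) {ε : K} (h2 : (2 : K) ≠ 0) (e0 : ε ≠ 0) (he : σ ε = -ε) {y : US K}
    (hy : y ∈ (sY : Subgroup (US K))) (hc : y.c ≠ 0) (ha : (f y).a = 0) (hc' : (f y).c ≠ 0) :
    ∃ l : K, σ l = l ∧ l ≠ 0 ∧ (f (Xc (ε * y.c))).a = l * (ε * (f y).c) := by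
  have m1 : Xc (ε * y.c) ∈ (sQ : Subgroup (US K)) := rfl
  have m2 : y ∈ (sQ : Subgroup (US K)) := hy.2
  have cm : f (Xc (ε * y.c)) * f y = f y * f (Xc (ε * y.c)) := by
    rw [← h.mul _ m1 _ m2, ← h.mul _ m2 _ m1, m_J rfl hy.1]
  have k := (comm_iff.1 cm).2
  rw [ha, mem_sQ.1 (h.mem _ m1), mem_sQ.1 (h.mem _ m2)] at k
  simp only [map_zero, mul_zero, zero_mul, add_zero] at k
  have s0 : σ (f y).c ≠ 0 := by simpa using hc'
  refine ⟨(f (Xc (ε * y.c))).a / (ε * (f y).c), ?_, fun k0 => np fun w hw => ⟨?_, h.mem w hw.2⟩, by field_simp⟩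
  · rw [map_div₀, map_mul, he]
    field_simp
    linear_combination -k
  · have a0 : (f (Xc (ε * y.c))).a = 0 := by
      rcases div_eq_zero_iff.1 k0 with k1 | k1
      · exact k1
      · exact absurd k1 (mul_ne_zero e0 hc')
    obtain ⟨φ, -, -, -, -, s⟩ := semi h
    obtain ⟨l, m, hl, hm, e⟩ := basis h2 e0 he hc w.c
    have := (lin3 h s (x := Xc (ε * y.c)) (y := y) (z := y) (w := w) (l := m) (m := l) (n := 0) rfl hy.2 hy.2 hw.2
      hm hl (map_zero _) (by simp [hw.1, hy.1]) (by simp [e])).1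
    rw [this, a0, ha]
    simp

/-- `k` is induced, fixes `Z` and acts on the span of `(a, c'), (0, e), (0, c)` by a matrix -/
structure Ac (u : US K →* G) (a c' e c : K) (k : US K → US K) (m₁ m₂ m₃ m₄ : K) : Prop where
  fa : Fa u sQ k
  fz : ∀ z ∈ (sZ : Subgroup (US K)), k z = z
  ac : ∀ (x : US K) (ξ η κ : K), x.b = 0 → σ ξ = ξ → σ η = η → σ κ = κ → x.a = ξ * a →
    x.c = ξ * c' + η * e + κ * c → (k x).a = (m₁ * ξ + m₂ * η) * a ∧
      (k x).c = (m₁ * ξ + m₂ * η) * c' + (m₃ * ξ + m₄ * η) * e + κ * c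

theorem Ac.comp {a c' e c m₁ m₂ m₃ m₄ n₁ n₂ n₃ n₄ : K} (h : Ac u a c' e c f m₁ m₂ m₃ m₄)
    (h' : Ac u a c' e c g n₁ n₂ n₃ n₄) (h1 : σ n₁ = n₁) (h2 : σ n₂ = n₂) (h3 : σ n₃ = n₃) (h4 : σ n₄ = n₄) :
    Ac u a c' e c (fun x => f (g x)) (m₁ * n₁ + m₂ * n₃) (m₁ * n₂ + m₂ * n₄) (m₃ * n₁ + m₄ * n₃)
      (m₃ * n₂ + m₄ * n₄) := by
  refine ⟨h.fa.comp h'.fa, fun z hz => by rw [h'.fz z hz, h.fz z hz], fun x ξ η κ hx k1 k2 k3 ha hc => ?_⟩
  obtain ⟨e1, e2⟩ := h'.ac x ξ η κ hx k1 k2 k3 ha hc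
  obtain ⟨e3, e4⟩ := h.ac (g x) _ _ κ (h'.fa.au.mem x hx) (by simp [h1, h2, k1, k2]) (by simp [h3, h4, k1, k2]) k3 e1 e2
  exact ⟨by rw [e3]; ring, by rw [e4]; ring⟩

theorem cj_Z (s : US K) {z : US K} (hz : z ∈ (sZ : Subgroup (US K))) : s * z * s⁻¹ = z := by
  rw [← m_Z hz s]; group

theorem low {a c' e c l : K} (hl : σ l = l) (l0 : l ≠ 0) (ha : a = l * e) {s : K} (hs : σ s = s) :
    ∃ k, Ac u a c' e c k 1 0 s 1 := by
  have hs' : σ (-s / l) = -s / l := by simp [hs, hl]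
  refine ⟨fun x => Xb _ hs' * x * (Xb _ hs')⁻¹, Fa.conj u _ (nm_Q _), fun z hz => cj_Z _ hz,
    fun x ξ η κ hx k1 k2 k3 h1 h2 => ?_⟩
  obtain ⟨e1, -, e2⟩ := cj_Q (Xb _ hs') hx
  refine ⟨by rw [e1, h1]; ring, ?_⟩
  rw [e2, h1, h2, Xb_b, ha]
  field_simp
  ring

theorem upp (hf : Fa u sQ f) (hg : Fa u sQ g) (gf : ∀ a ∈ (sQ : Subgroup (US K)), g (f a) = a)
    (fg : ∀ a ∈ (sQ : Subgroup (US K)), f (g a) = a) {y : US K} (hy : y ∈ (sY : Subgroup (US K))) (ha : (f y).a = 0)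
    {e₀ e m : K} (hm : σ m = m) (m0 : m ≠ 0) (he : (g (Xc e)).a = m * e₀) {t : K} (ht : σ t = t) :
    ∃ k, Ac u (f (Xc e₀)).a (f (Xc e₀)).c e (f y).c k 1 t 0 1 := by
  obtain ⟨φ, -, -, -, -, s⟩ := semi hf.au
  have fx : ∀ l : K, σ l = l → σ (φ.symm l) = φ.symm l := fun l hl => by rw [← map_σ, hl]
  have hs' : σ (-φ.symm t / m) = -φ.symm t / m := by simp [fx t ht, hm]
  refine ⟨fun x => f (Xb _ hs' * g x * (Xb _ hs')⁻¹), hf.comp ((Fa.conj u _ (nm_Q _)).comp hg), fun z hz => ?_,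
    fun x ξ η κ hx k1 k2 k3 h1 h2 => ?_⟩
  · rw [cj_Z _ (chQ_Z hg.au z hz), fg z hz.2.1]
  have q1 : (g (Xc e)).b = 0 := hg.au.mem (Xc e) rfl
  have q2 : (g x).b = 0 := hg.au.mem x hx
  have r1 : f (g (Xc e)) = Xc e := fg _ rfl
  have r2 : f (g x) = x := fg _ hx
  have w1 := lin3 hf.au s (x := Xc e₀) (y := g (Xc e)) (z := y)
    (w := qq (φ.symm η * (m * e₀)) (φ.symm ξ * e₀ + φ.symm η * (g (Xc e)).c + φ.symm κ * y.c))
    rfl q1 hy.2 rfl (fx ξ k1) (fx η k2) (fx κ k3) (by simp [he, hy.1]) (by simp)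
  simp only [RingEquiv.apply_symm_apply, r1, Xc_a, Xc_c, ha, mul_zero, add_zero] at w1
  have w2 := (au_modZ hg.au (hf.au.mem _ (show qq _ _ ∈ (sQ : Subgroup (US K)) from rfl)) hx (w1.1.trans h1.symm)
    (w1.2.trans h2.symm)).1
  rw [gf _ rfl, qq_a] at w2
  obtain ⟨e1, e3, e2⟩ := cj_Q (Xb _ hs') q2
  have w3 := lin3 hf.au s (x := g x) (y := Xc e₀) (z := y) (l := 1) (m := φ.symm η * φ.symm t) (n := 0)
    q2 rfl hy.2 e3 (map_one _) (by rw [map_mul, fx η k2, fx t ht]) (map_zero _) (by rw [e1]; simp)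
    (by rw [e2, ← w2, Xb_b, Xc_c]; field_simp; ring)
  simp only [map_mul, RingEquiv.apply_symm_apply, map_one, map_zero, r2] at w3
  exact ⟨by rw [w3.1, h1]; ring, by rw [w3.2, h2]; ring⟩

theorem exists_beta (hq : 3 < Bar.q K) : ∃ β : K, σ β = β ∧ β ≠ 0 ∧ β ≠ 1 ∧ β ≠ -1 := by
  classical
  by_contra hn
  push Not at hn
  have h1 : Nat.card {x : K // σ x = x} ≤ Nat.card ({0, 1, -1} : Finset K) := by
    refine Nat.card_le_card_of_injective (fun x => ⟨x.1, ?_⟩) fun x y e => Subtype.ext (Subtype.mk.inj e)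
    by_cases h0 : x.1 = 0
    · simp [h0]
    by_cases h1 : x.1 = 1
    · simp [h1]
    simp [hn x.1 x.2 h0 h1]
  rw [card_fix, Nat.card_eq_fintype_card, Fintype.card_coe] at h1
  have := Finset.card_le_three (a := (0 : K)) (b := 1) (c := -1)
  omega

theorem fin (c : Cx p u) {a c' ε c₁ m₁ m₃ β : K} (h2 : (2 : K) ≠ 0) (e0 : ε ≠ 0) (he : σ ε = -ε) (hc : c₁ ≠ 0)
    (h : Ac u a c' (ε * c₁) c₁ f m₁ 0 m₃ β) : β = 1 ∨ β = -1 := by
  have ac : ∀ (y : US K) (η κ : K), y ∈ (sY : Subgroup (US K)) → σ η = η → σ κ = κ → y.c = η * (ε * c₁) + κ * c₁ →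
      (f y).a = 0 ∧ (f y).c = β * η * (ε * c₁) + κ * c₁ := fun y η κ hy k1 k2 e => by
    simpa using h.ac y 0 η κ hy.2 (map_zero _) k1 k2 (by simp [hy.1]) (by simp [e])
  have py : PY f := fun y hy => by
    obtain ⟨l, m, hl, hm, e⟩ := basis h2 e0 he hc y.c
    exact ⟨(ac y m l hy hm hl e).1, h.fa.au.mem y hy.2⟩
  obtain ⟨s, r, t, φ, -, -, -, e⟩ := c.decQ h.fa py
  have z : ∀ d : K, σ d = d → r * σ r * (t * σ t) * φ d = d := fun d hd => by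
    have k := h.fz (Xd d hd) (by simp)
    rw [e _ (show Xd d hd ∈ (sQ : Subgroup (US K)) from rfl), cj_Z _ (by simp)] at k
    simpa using congrArg US.d k
  have z1 := z 1 (map_one _)
  rw [map_one, mul_one] at z1
  have z2 := z (ε * ε) (by simp [he])
  rw [z1, one_mul, map_mul] at z2
  have y : ∀ w : K, (f (Xc w)).c = r * (t * σ t) * φ w := fun w => by
    rw [e _ (show Xc w ∈ (sQ : Subgroup (US K)) from rfl), (cj_Q s (by simp)).2.2]
    simp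
  have y1 := (ac (Xc c₁) 0 1 (by simp) (map_zero _) (map_one _) (by simp)).2
  have y2 := (ac (Xc (ε * c₁)) 1 0 (by simp) (map_one _) (map_zero _) (by simp)).2
  rw [y] at y1 y2
  rw [map_mul] at y2
  have k : φ ε = β * ε := mul_right_cancel₀ hc (by linear_combination y2 - φ ε * y1)
  rw [k] at z2
  have k2 : β * β = 1 := mul_right_cancel₀ (mul_ne_zero e0 e0) (by linear_combination z2)
  exact mul_self_eq_one_iff.1 k2

end OppQ

open OppQ in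
theorem oppQ_odd (c : Cx p u) (hp : p ≠ 2) (hq : 3 < Bar.q K) : OppQ u := by
  intro f hf np y hy ha
  by_contra hc
  have h2 : (2 : K) ≠ 0 := U5F.two_ne p hp
  obtain ⟨ε, e0, he⟩ := U5F.exists_skew (K := K)
  obtain ⟨g, hg, gf, fg⟩ := hf.exists_inv
  have hy' : f y ∈ (sY : Subgroup (US K)) := ⟨ha, hf.au.mem y hy.2⟩
  have r : g (f y) = y := gf y hy.2
  have hc' : (f y).c ≠ 0 := fun k => hc (by
    have := chQ_Z hg.au (f y) ⟨ha, hy'.2, k⟩
    rw [r] at this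
    exact this.2.2)
  obtain ⟨l, hl, l0, e1⟩ := key hf.au np h2 e0 he hy hc ha hc'
  obtain ⟨m, hm, m0, e2⟩ := key hg.au (fun k => np (py_inv hg.au hf.au fg k)) h2 e0 he hy' hc' (by rw [r, hy.1])
    (by rwa [r])
  rw [r] at e2
  obtain ⟨β, hb, b0, b1, b2⟩ := exists_beta hq
  obtain ⟨k₁, a1⟩ := upp hf hg gf fg hy ha hm m0 e2 (t := 1) (map_one _)
  obtain ⟨k₂, a2⟩ := low (u := u) (c' := (f (Xc (ε * y.c))).c) (c := (f y).c) hl l0 e1 (s := β - 1) (by simp [hb])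
  obtain ⟨k₃, a3⟩ := upp hf hg gf fg hy ha hm m0 e2 (t := -β⁻¹) (by simp [hb])
  have a4 := a3.comp (a2.comp a1 (by simp) (by simp) (by simp) (by simp)) (by simp) (by simp) (by simp [hb])
    (by simp [hb])
  have i1 : 1 * (1 * 1 + 0 * 1) + -β⁻¹ * ((β - 1) * 1 + 1 * 1) = 0 := by field_simp; ring
  have i2 : 0 * (1 * 1 + 0 * 1) + 1 * ((β - 1) * 1 + 1 * 1) = β := by ring
  rw [i1, i2] at a4
  rcases fin c h2 e0 he hc' a4 with k | k
  exacts [b1 k, b2 k]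

end Cfsg.Agent.U4F
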