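import Cfsg.Agent.U4F.OppJ
import Cfsg.Agent.U4F.Fld

/-! Project U4F: Shp.  See `notes/U4F.md`. -/

set_option autoImplicit false
set_option linter.unusedSectionVars false

namespace Cfsg.Agent.U4F

open U5F (Bar σ σσ card_K card_fix exists_q map_σ TF θT)
open US FK
open RFS (Au)
open scoped commutatorElement

variable {K : Type*} [Field K] [Bar K] {G : Type*} [Group G] [Finite G] {p : ℕ} [Fact p.Prime] [CharP K p]
  {u : US K →* G} {f g F : US K → US K} {E : Subgroup (US K)} {L : Subgroup G}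

namespace Shp

theorem ZJ {z : US K} (hz : z ∈ (sZ : Subgroup (US K))) : z ∈ (sJ : Subgroup (US K)) := hz.1

theorem ext_fun {i j : US K → K} (h : ∀ z ∈ (sZ : Subgroup (US K)), ∀ z' ∈ (sZ : Subgroup (US K)), i z = i z' → z = z') :
    ∃ k : K → K, ∀ z ∈ (sZ : Subgroup (US K)), k (i z) = j z := by
  classical
  refine ⟨fun x => if e : ∃ z ∈ (sZ : Subgroup (US K)), i z = x then j e.choose else 0, fun z hz => ?_⟩
  have e : ∃ z' ∈ (sZ : Subgroup (US K)), i z' = i z := ⟨z, hz, rfl⟩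
  simp only [dif_pos e]
  rw [h _ e.choose_spec.1 z hz e.choose_spec.2]

theorem b_inj (h : Two p u sQ sJ) (hf : Fa u sJ f) (k : ¬ PZ f) :
    ∀ z ∈ (sZ : Subgroup (US K)), ∀ z' ∈ (sZ : Subgroup (US K)), (f z).b = (f z').b → z = z' := fun z hz z' hz' e =>
  mul_inv_eq_one.1 (oppJ h hf k (mul_mem hz (inv_mem hz')) (by
    rw [hf.au.mul _ (ZJ hz) _ (inv_mem (ZJ hz')), hf.au.map_inv (ZJ hz'), mul_b, inv_b, e, add_neg_cancel]))

theorem fa_cj (hf : Fa u sJ f) (hg : Fa u sJ g) (t : K) : Fa u sJ fun x => f (Xa t * g x * (Xa t)⁻¹) :=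
  hf.comp ((Fa.conj u (Xa t) (nm_J _)).comp hg)

theorem np (h : Two p u sQ sJ) (hf : Fa u sJ f) (hg : Fa u sJ g) (k : ¬ PZ f)
    (e : ∀ a ∈ (sJ : Subgroup (US K)), g (f a) = a) {t : K} (ht : t ≠ 0) :
    ¬ PZ fun x => f (Xa t * g x * (Xa t)⁻¹) := fun k' =>
  k (p0J h hf (s := Xa t) ht (fa_cj hf hg t) k' fun a ha => by simp only [e a ha])

theorem mv {t : K} {x y : US K} (e : Xa t * x * (Xa t)⁻¹ = y) : x = Xa (-t) * y * (Xa (-t))⁻¹ := by
  have : Xa (-t) = (Xa t)⁻¹ := by ext <;> simp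
  rw [this, ← e]; group

/-- the data of the proof -/
structure Dt (u : US K →* G) (f g : US K → US K) (γ : K → K) (ℓ m : K →+ K) : Prop where
  hf : Fa u sJ f
  hg : Fa u sJ g
  gf : ∀ a ∈ (sJ : Subgroup (US K)), g (f a) = a
  fg : ∀ a ∈ (sJ : Subgroup (US K)), f (g a) = a
  sur : ∀ b, σ b = b → ∃ z ∈ (sZ : Subgroup (US K)), (f z).b = b
  hγ : ∀ z ∈ (sZ : Subgroup (US K)), γ (f z).b = (f z).c
  pi : ∀ y ∈ (sY : Subgroup (US K)), (f y).d + ℓ (f y).c + m (f y).b = 0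

variable {γ : K → K} {ℓ m : K →+ K}

theorem Dt.add (D : Dt u f g γ ℓ m) {b b' : K} (hb : σ b = b) (hb' : σ b' = b') : γ (b + b') = γ b + γ b' := by
  obtain ⟨z, hz, rfl⟩ := D.sur b hb
  obtain ⟨z', hz', rfl⟩ := D.sur b' hb'
  have := D.hγ _ (mul_mem hz hz')
  rw [D.hf.au.mul _ (ZJ hz) _ (ZJ hz'), mul_b, mul_c, mem_sJ.1 (D.hf.au.mem _ (ZJ hz)), zero_mul, add_zero] at this
  rw [this, D.hγ _ hz, D.hγ _ hz']

theorem Dt.lam (D : Dt u f g γ ℓ m) {x y : US K} (hx : x.a = 0) (hy : y.a = 0) :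
    (f (x * y)).c - γ (f (x * y)).b = ((f x).c - γ (f x).b) + ((f y).c - γ (f y).b) := by
  rw [D.hf.au.mul _ hx _ hy, mul_b, mul_c, mem_sJ.1 (D.hf.au.mem _ hx), D.add (hb _) (hb _)]
  ring

/-- the map `c ↦ Λ (f (Xc c))` -/
def Dt.hh (D : Dt u f g γ ℓ m) : K →+ K :=
  AddMonoidHom.mk' (fun c => (f (Xc c)).c - γ (f (Xc c)).b) fun c c' => by
    rw [← D.lam rfl rfl, show Xc c * Xc c' = Xc (c + c') by ext <;> simp]

theorem Dt.hh_Y (D : Dt u f g γ ℓ m) {y : US K} (hy : y ∈ (sY : Subgroup (US K))) :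
    D.hh y.c = (f y).c - γ (f y).b := by
  have e : y = Xc y.c * Xd y.d y.hd := by ext <;> simp [hy.1, hy.2]
  have := D.lam (x := Xc y.c) (y := Xd y.d y.hd) rfl rfl
  rw [← e, D.hγ (Xd y.d y.hd) ⟨rfl, rfl, rfl⟩, sub_self, add_zero] at this
  exact this.symm

theorem Dt.inj (D : Dt u f g γ ℓ m) : Function.Injective D.hh := (injective_iff_map_eq_zero _).2 fun c hc => by
  obtain ⟨z, hz, e⟩ := D.sur _ (f (Xc c)).hb
  have e1 : (f z).c = (f (Xc c)).c := by rw [← D.hγ z hz, e]; exact (sub_eq_zero.1 hc).symm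
  have p1 := D.pi z ⟨hz.1, hz.2.1⟩
  have p2 := D.pi (Xc c) ⟨rfl, rfl⟩
  rw [e, e1] at p1
  have e2 : f z = f (Xc c) := US.ext ((D.hf.au.mem _ (ZJ hz)).trans (D.hf.au.mem (Xc c) rfl).symm) e e1
    (by linear_combination p1 - p2)
  have := D.hf.au.inj _ (ZJ hz) _ rfl e2
  rw [this] at hz
  exact hz.2.2

theorem Dt.key (D : Dt u f g γ ℓ m) {z z' : US K} (hz : z ∈ (sZ : Subgroup (US K))) (hz' : z' ∈ (sZ : Subgroup (US K)))
    {t a : K} (e : f (Xa t * g z * (Xa t)⁻¹) = Xa a * f z' * (Xa a)⁻¹) :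
    (f z').b * (a * σ a) + (a * σ (γ (f z').b) + γ (f z').b * σ a) + ℓ (a * (f z').b) = z.d ∧
      D.hh ((g z).b * t) = (f z').b * a := by
  have g0 : (g z).a = 0 := D.hg.au.mem _ (ZJ hz)
  have f0 : (f z').a = 0 := D.hf.au.mem _ (ZJ hz')
  obtain ⟨y, hy⟩ : ∃ y, y = Xa t * g z * (Xa t)⁻¹ * (g z)⁻¹ := ⟨_, rfl⟩
  have y1 : y ∈ (sY : Subgroup (US K)) := hy ▸ c_top (Xa t) (g z)
  have y2 : y.c = (g z).b * t := by
    rw [hy]
    have := comm_c (Xa t) (g z)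
    rw [commutatorElement_def] at this
    rw [this, g0]; simp [mul_comm]
  rw [← inv_mul_cancel_right (Xa t * g z * (Xa t)⁻¹) (g z), ← hy, D.hf.au.mul _ y1.1 _ g0, D.fg _ (ZJ hz)] at e
  obtain ⟨-, c1, c2, c3⟩ := cj_J (Xa a) f0
  have y0 : (f y).a = 0 := D.hf.au.mem _ y1.1
  rw [← e] at c1 c2 c3
  simp only [mul_b, mul_c, mul_d, hz.1, hz.2.1, hz.2.2, y0, Xa_a, map_zero, zero_mul, mul_zero, add_zero] at c1 c2 c3
  have p1 := D.pi y y1
  have p2 := D.pi z' ⟨hz'.1, hz'.2.1⟩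
  rw [c1, c2, map_add] at p1
  refine ⟨?_, ?_⟩
  · rw [D.hγ _ hz']
    linear_combination p1 - p2 - c3
  · rw [← y2, D.hh_Y y1, c1, c2, D.hγ _ hz']
    ring

theorem main (h : Two p u sQ sJ) (hf : Fa u sJ f) (k : ¬ PZ f) {z₁ : US K} (h1 : z₁ ∈ (sZ : Subgroup (US K)))
    (b1 : (f z₁).b = 1) (c1 : (f z₁).c = 0) : ∃ δ, Sh u f δ := by
  obtain ⟨g, hg, gf, fg⟩ := hf.exists_inv
  have kg : ¬ PZ g := fun k' => k (pz_inv hg.au hf.au fg k')
  obtain ⟨ℓ, m, l0, m0, pi⟩ := exists_pi h hf k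
  obtain ⟨γ, hγ⟩ := ext_fun (j := fun z => (f z).c) (b_inj h hf k)
  have D : Dt u f g γ ℓ m := ⟨hf, hg, gf, fg, fun b => oppJ_sur h hf k, hγ,
    fun y hy => (pi _ (hf.au.mem _ hy.1)).1 ⟨y, hy, rfl⟩⟩
  obtain ⟨φ, hφ⟩ := col D.inj fun t => by
    by_cases ht : t = 0
    · exact ⟨0, fun l _ => ⟨0, map_zero _, by rw [ht, mul_zero, map_zero, mul_zero]⟩⟩
    obtain ⟨s, hs⟩ := t2J h _ _ (fa_cj hf hg t) hf (np h hf hg k gf ht) k
    refine ⟨-s, fun l hl => ?_⟩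
    obtain ⟨z, hz, rfl⟩ := oppJ_sur h hg kg hl
    obtain ⟨z', hz', e⟩ := hs z hz
    exact ⟨_, hb _, (D.key hz hz' (mv e)).2⟩
  obtain ⟨κ, hκ⟩ := ext_fun (i := fun z => φ (g z).b) (j := fun z => z.d)
    fun z hz z' hz' e => b_inj h hg kg z hz z' hz' (φ.injective e)
  have κs : ∀ x, σ x = x → ∃ z ∈ (sZ : Subgroup (US K)), φ (g z).b = x := fun x hx => by
    obtain ⟨z, hz, e⟩ := oppJ_sur h hg kg (b := φ.symm x) (by rw [← map_σ, hx])
    exact ⟨z, hz, by rw [e, φ.apply_symm_apply]⟩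
  have g1 : γ 1 = 0 := by rw [← b1, hγ _ h1, c1]
  have ex : ∀ a : K, ∃ n, σ n = n ∧ (∀ b, σ b = b →
      b * (a * σ a) + (a * σ (γ b) + γ b * σ a) + ℓ (a * b) = κ (b * n)) ∧ (a * σ a + ℓ a = 0 → a = 0) := fun a => by
    by_cases ha : a = 0
    · refine ⟨0, map_zero _, fun b _ => ?_, fun _ => ha⟩
      have := hκ 1 (one_mem _)
      simp only [hg.au.one, one_b, map_zero, one_d] at this
      simp [ha, this]
    obtain ⟨s, hs⟩ := t2J h _ _ (fa_cj hg hf a) hg (np h hg hf kg fg ha) kg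
    have K1 : ∀ z' ∈ (sZ : Subgroup (US K)), ∃ z ∈ (sZ : Subgroup (US K)),
        (f z').b * (a * σ a) + (a * σ (γ (f z').b) + γ (f z').b * σ a) + ℓ (a * (f z').b) = z.d ∧
          φ (g z).b * D.hh (-s) = (f z').b * a := fun z' hz' => by
      obtain ⟨z, hz, e⟩ := hs z' hz'
      have e' := congrArg f (mv e)
      rw [fg _ (nm_J _ _ (hf.au.mem _ (ZJ hz')))] at e'
      exact ⟨z, hz, (D.key hz hz' e'.symm).imp_right fun k => by rw [← k, hφ _ _ (hb _)]⟩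
    obtain ⟨z₀, h0, e1, e2⟩ := K1 z₁ h1
    rw [b1] at e1 e2
    refine ⟨φ (g z₀).b, by rw [← map_σ, hb], fun b hb' => ?_, fun e => ?_⟩
    · obtain ⟨z', hz', rfl⟩ := D.sur b hb'
      obtain ⟨z, hz, e3, e4⟩ := K1 z' hz'
      have s0 : D.hh (-s) ≠ 0 := fun s0 => ha (by rw [s0] at e2; linear_combination -e2)
      have : (f z').b * φ (g z₀).b = φ (g z).b := mul_right_cancel₀ s0 (by linear_combination (f z').b * e2 - e4)
      rw [this, e3, hκ z hz]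
    · have : z₀ = 1 := US.ext h0.1 h0.2.1 h0.2.2 (by
        rw [← e1, g1, map_zero, one_d, mul_one]; linear_combination e)
      rw [this, hg.au.one, one_b, map_zero] at e2
      linear_combination -e2
  choose n n0 n1 n2 using ex
  obtain ⟨s1, s2⟩ := star (k := κ) g1 l0 (map_add ℓ) (fun x y hx hy => by
    obtain ⟨z, hz, rfl⟩ := κs x hx
    obtain ⟨z', hz', rfl⟩ := κs y hy
    have := hκ _ (mul_mem hz hz')
    simp only [hg.au.mul _ (ZJ hz) _ (ZJ hz'), mul_b, map_add, mul_d, hz.1, hz'.2.1, hz'.2.2, zero_mul, add_zero] at this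
    rw [this, hκ z hz, hκ z' hz']) n0 n1 n2
  refine ⟨-m, hf, k, fun b hb' => by simp [m0 b hb'], fun z hz => by rw [← hγ z hz, s1 _ (hb _)], fun y hy => ?_⟩
  have := D.pi y hy
  rw [s2] at this
  rw [AddMonoidHom.neg_apply]
  linear_combination this

end Shp

theorem exists_sh (h : Two p u sQ sJ) (e : EssJ u) : ∃ f δ, Sh u f δ := by
  obtain ⟨f, hf, k⟩ := e
  obtain ⟨z, hz, b1⟩ := oppJ_sur h hf k (map_one _ : σ (1 : K) = 1)
  obtain ⟨-, c1, c2, -⟩ := cj_J (Xa (-(f z).c)) (hf.au.mem _ (Shp.ZJ hz))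
  rw [b1] at c1 c2
  exact ⟨_, Shp.main h ((Fa.conj u (Xa (-(f z).c)) (nm_J _)).comp hf)
    (fun k' => one_ne_zero (c1.symm.trans (k' z hz).2.1)) hz c1 (c2.trans (by simp))⟩

end Cfsg.Agent.U4F
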