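import Cfsg.Agent.U4F.ShT
import Cfsg.Agent.U4F.GrQ
import Cfsg.Agent.FK.Uniq

/-! Project U4F: Uniq.  See `notes/U4F.md`. -/

set_option autoImplicit false
set_option linter.unusedSectionVars false

namespace Cfsg.Agent.U4F

open U5F (Bar σ σσ card_K card_fix exists_q map_σ TF θT)
open US FK
open RFS (Au)
open scoped commutatorElement

variable {K : Type*} [Field K] [Bar K] {G : Type*} [Group G] [Finite G] {p : ℕ} [Fact p.Prime] [CharP K p]
  {u : US K →* G} {f g F : US K → US K} {E : Subgroup (US K)} {L : Subgroup G}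

namespace Uniq

variable {G' : Type*} [Group G'] [Finite G'] {u' : US K →* G'}

theorem top (h : NF p u) (hX : ∀ k : TF K, In u ⊤ (act k) → In u' ⊤ (act k)) (hF : Fa u ⊤ F) : In u' ⊤ F := by
  obtain ⟨s, r, t, φ, hr, ht, e⟩ := h.cx.std F hF
  have h1 := hX ⟨(Units.mk0 r hr, Units.mk0 t ht), φ⟩
    (((In.conj u ⊤ s⁻¹).comp hF.ind fun _ _ => trivial).congr fun a _ => by
      rw [e a, act_apply]
      show _ = U4F.tor r t (fld φ a)
      group)
  exact ((In.conj u' ⊤ s).comp h1 fun _ _ => trivial).congr fun a _ => (e a).symm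

theorem onQ (h : NF p u) (h' : NF p u') (hX : ∀ k : TF K, In u ⊤ (act k) → In u' ⊤ (act k))
    (hf : Fa u sQ f) : In u' sQ f := by
  have key : ∀ g, Fa u sQ g → PY g → In u' sQ g := fun g hg hW => by
    obtain ⟨F, hF, e⟩ := extQ h.cx.two hg hW
    exact ((top h hX hF).mono le_top).congr e
  by_cases k : PY f
  · exact key f hf k
  obtain ⟨s, hs, ht⟩ := h.gr f hf k
  have h1 := (Fa.conj u (Xb s hs) (nm_Q _)).comp hf
  have h2 := (Fa.mk au_nu h.nu).comp h1
  have h3 : In u' sQ nui := h'.nu.of_inv (fun _ _ => rfl) fun b hb => nu_nui hb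
  refine ((In.conj u' sQ (Xb s hs)⁻¹).comp (h3.comp (key _ h2 fun y hy => ⟨?_, rfl⟩) h2.au.mem)
    fun a _ => rfl).congr fun a ha => by
      rw [nui_nu (h1.au.mem a ha)]; group
  rw [nu_a, (cj_Q _ (hf.au.mem y hy.2)).2.2, ht y hy, Xb_b, mul_comm, sub_self]

end Uniq

theorem NF.uniq {G' : Type*} [Group G'] [Finite G'] {u' : US K →* G'} (h : NF p u) (h' : NF p u')
    (hX : ∀ k : TF K, In u ⊤ (act k) → In u' ⊤ (act k)) {X : Subgroup (US K)} (hf : In u X f) : In u' X f :=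
  h.cx.two.uniq (fun _ => Uniq.top h hX) (fun _ => Uniq.onQ h h' hX)
    (fun _ => uniqJ h.cx.two h.mu h'.mu fun _ => Uniq.top h hX) hf

end Cfsg.Agent.U4F
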