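import Cfsg.Agent.U4F.EQ
import Cfsg.Agent.U4F.EJ
import Cfsg.Agent.U4F.EJ2
import Cfsg.Agent.U4F.EV
import Cfsg.Agent.U4F.AuS
import Cfsg.Agent.U4F.Shp
import Cfsg.Agent.U4F.LowJ
import Cfsg.Agent.U4F.OppQ
import Cfsg.Agent.U4F.NuQ
import Cfsg.Agent.U4F.Uniq
import Cfsg.Agent.U4F.ModA
import Cfsg.Agent.U4F.ModN
import Cfsg.Agent.U4F.ModC
import Cfsg.Agent.U4F.ModB

/-! Project U4F: assembling the general case.  See `notes/U4F.md`. -/

set_option autoImplicit false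
set_option linter.unusedSectionVars false

namespace Cfsg.Agent.U4F

open U5F (Bar σ σσ card_K card_fix exists_q map_σ TF θT)
open US FK
open RFS (Au)
open scoped commutatorElement

variable {K : Type*} [Field K] [Bar K] {G : Type*} [Group G] [Finite G] {p : ℕ} [Fact p.Prime] [CharP K p]
  {u : US K →* G}

theorem ess (hq : 2 < Bar.q K) {E : Subgroup (US K)} {L : Subgroup G} (h : Pr p u E L) : E = sQ ∨ E = sJ := by
  by_cases hJ : E ≤ sJ
  · exact .inr (le_antisymm hJ fun x hx => h.cen x fun e he => m_J hx (hJ he))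
  by_cases hQ : E ≤ sQ
  · exact .inl (eqQ h hQ hJ)
  exfalso
  obtain ⟨e₀, he₀, h0⟩ := SetLike.not_le_iff_exists.1 hJ
  obtain ⟨e₁, he₁, h1⟩ := SetLike.not_le_iff_exists.1 hQ
  rw [mem_sJ] at h0
  rw [mem_sQ] at h1
  obtain ⟨e, he, ha, hb⟩ : ∃ e ∈ E, e.a ≠ 0 ∧ e.b ≠ 0 := by
    by_cases k0 : e₀.b = 0
    · by_cases k1 : e₁.a = 0
      · exact ⟨e₀ * e₁, mul_mem he₀ he₁, by simpa [k1] using h0, by simpa [k0] using h1⟩
      · exact ⟨e₁, he₁, k1, h1⟩
    · exact ⟨e₀, he₀, h0, k0⟩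
  have hV : Om p E ⊥ ≤ sJ := fun v hv => by
    by_contra k
    refine reg_v h hv k fun kb => ?_
    have := (comm_iff.1 ((U5F.mem_V.1 hv).2.2 e he)).1
    rw [kb, mul_zero] at this
    exact mul_ne_zero k hb this.symm
  have hJ' := ev h hV he ha hb
  by_cases k : ∀ x ∈ E, σ (x.a / e.a) = x.a / e.a
  · by_cases hp : p = 2
    · exact ej_two h hp hq hJ' he ha k
    · exact ej_odd h hp hJ' he ha k
  · push Not at k
    obtain ⟨x, hx, k⟩ := k
    exact ej_span h hJ' he ha hx k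

theorem two_of' (h : Sat p u) (e : ∀ E L, Pr p u E L → E = sQ ∨ E = sJ) : Two p u sQ sJ where
  sat := h
  ess := e
  nQ := nm_Q
  nT := nm_J
  cQ _ k := (cz_Q k).2.1
  cT _ k := cz_Y fun y hy => k y hy.1
  chQ _ := ch_Q
  chT _ := ch_J
  QT k := one_ne_zero (α := K) (k (x := Xa 1) rfl)
  TQ k := one_ne_zero (α := K) (k (x := Xb 1 (map_one _)) rfl)

theorem two_of (hq : 2 < Bar.q K) (h : Sat p u) : Two p u sQ sJ := two_of' h fun _ _ => ess hq

/-- the normal form on `J` -/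
theorem exists_nj (h : Two p u sQ sJ) (e : EssJ u) : ∃ β : US K ≃* US K, NJ p (u.comp β.toMonoidHom) := by
  obtain ⟨β, hβ⟩ := exists_std h.sat
  obtain ⟨f, δ, s⟩ := exists_sh (two_tw h β) (e.tw β)
  obtain ⟨β', f', c, s'⟩ := s.tw ⟨two_tw h β, hβ⟩
  have l := s'.low c.two
  exact ⟨β'.trans β, c, c.torA l, l.mu⟩

theorem NJ.nf (n : NJ p u) (gr : GrQ u) (e : EssQ u) : NF p u :=
  have l := lowQ n.cx.two gr e
  ⟨n.cx, tor0_of n.tor (n.cx.torB l), n.mu, n.cx.nuQ n.tor l, gr⟩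

theorem md_u0 : ∃ θ, Md p (u0 : US K →* SJ K) θ :=
  let ⟨θ, h⟩ := exists_theta (K := K)
  ⟨θ, u0_inj, syl_u0, h, tor0_u0, mu_u0, nu_u0, fun _ => nm_u0, gr_u0⟩

/-- a system in normal form is the system of an extension of `SU₄(q)` -/
theorem NF.real (hq : 2 < Bar.q K) (n : NF p u) {Ω : Type*} [Group Ω] {S : Subgroup Ω} [Finite S] {F : FusionSystem S}
    {j : Ω → G} {k : G → Ω} (i : H92.FIso F (groupFusionSystem u.range) j k) : F.IsRealizable p := by
  obtain ⟨θ, m⟩ := md_u0 (K := K) (p := p)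
  obtain ⟨G', _, _, u', s', st, t0, hm, hn, gr, ho, hX⟩ := model_ext m _ (not_dvd_X n.cx.two.sat) fun x hx => by
    obtain ⟨s, t₁, t₂, h1, h2, h3, e⟩ := m.nm _ ⟨Au.equiv (act x), hx⟩
    exact ((In.conj u ⊤ s).comp (n.tor t₁ t₂ h1 h2 h3) fun _ _ => trivial).congr fun a _ => (e a).symm
  have n' : NF p u' := ⟨⟨two_of hq s', st⟩, t0, hm, hn, gr⟩
  exact realizable_of i n.cx.two.sat.inj s'.inj s'.pg
    (fun X f => ⟨n.uniq n' fun x hx => (hX x).2 hx, n'.uniq n fun x hx => (hX x).1 hx⟩) ho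

/-- reduction to the normal form on `J` -/
theorem red (h : Two p u sQ sJ) {Ω : Type*} [Group Ω] {S : Subgroup Ω} [Finite S] {F : FusionSystem S}
    {j : Ω → G} {k : G → Ω} (i : H92.FIso F (groupFusionSystem u.range) j k)
    (H : ∀ u' : US K →* G, NJ p u' → EssQ u' → H92.FIso F (groupFusionSystem u'.range) j k → F.IsRealizable p) :
    F.IsRealizable p := by
  by_cases eQ : EssQ u
  swap
  · exact realizable_of_fIso i (h.real fun f hf => extQ h hf (by_contra fun k => eQ ⟨f, hf, k⟩))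
  by_cases eJ : EssJ u
  swap
  · exact realizable_of_fIso i (h.symm.real fun f hf => extJ h hf (by_contra fun k => eJ ⟨f, hf, k⟩))
  obtain ⟨β, n⟩ := exists_nj h eJ
  exact H _ n (eQ.tw β) (by rwa [range_tw])

theorem gen (hq : 3 < Bar.q K) (h : Sat p u) {Ω : Type*} [Group Ω] {S : Subgroup Ω} [Finite S] {F : FusionSystem S}
    {j : Ω → G} {k : G → Ω} (i : H92.FIso F (groupFusionSystem u.range) j k) : F.IsRealizable p :=
  red (two_of (by omega) h) i fun _ n e i' => by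
    refine (n.nf (grQ n.cx.two ?_ n.tor hq) e).real (by omega) i'
    by_cases hp : p = 2
    · exact oppQ_two n.cx.two hp
    · exact oppQ_odd n.cx hp hq

end Cfsg.Agent.U4F
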