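import Cfsg.Agent.U4F.Syl
import Cfsg.Agent.U4F.CW

/-! Project U4F: OppJ.  See `notes/U4F.md`. -/

set_option autoImplicit false
set_option linter.unusedSectionVars false

namespace Cfsg.Agent.U4F

open U5F (Bar σ σσ card_K card_fix exists_q map_σ TF θT)
open US FK
open RFS (Au)
open scoped commutatorElement

variable {K : Type*} [Field K] [Bar K] {G : Type*} [Group G] [Finite G] {p : ℕ} [Fact p.Prime] [CharP K p]
  {u : US K →* G} {f g F : US K → US K} {E : Subgroup (US K)} {L : Subgroup G}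

namespace OppJ

variable (K) in
/-- the fixed field as an additive group -/
def Fx : AddSubgroup K where
  carrier := {x | σ x = x}
  zero_mem' := map_zero _
  add_mem' := fun {a b} (ha : _ = _) (hb : _ = _) => show σ (a + b) = a + b by rw [map_add, ha, hb]
  neg_mem' := fun {a} (ha : _ = _) => show σ (-a) = -a by rw [map_neg, ha]

theorem card_Fx : Nat.card (Fx K) = Bar.q K := card_fix

variable (K) in
theorem exists_rho : ∃ ρ : K →+ Fx K, ∀ x, σ x = x → (ρ x : K) = x := by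
  obtain ⟨ω, hω⟩ := U5F.exists_tr (K := K) (t := 1) (map_one _)
  refine ⟨AddMonoidHom.mk' (fun x => ⟨ω * x + σ (ω * x), show σ _ = _ by simp [add_comm]⟩) fun x y =>
    Subtype.ext ?_, fun x hx => ?_⟩
  · simp; ring
  · simp only [AddMonoidHom.mk'_apply, map_mul, hx]
    linear_combination x * hω

/-- the form `ρ (k a σ a')` -/
def bil (ρ : K →+ Fx K) (k : K) : K →+ K →+ Fx K :=
  AddMonoidHom.mk' (fun a => AddMonoidHom.mk' (fun a' => ρ (k * (a * σ a'))) fun x y => by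
    rw [← map_add, map_add σ]; congr 1; ring) fun x y => AddMonoidHom.ext fun a' => by
    simp only [AddMonoidHom.mk'_apply, AddMonoidHom.add_apply]
    rw [← map_add]; congr 1; ring

theorem bil_apply (ρ : K →+ Fx K) (k a a' : K) : bil ρ k a a' = ρ (k * (a * σ a')) := rfl

theorem YJ {y : US K} (hy : y ∈ (sY : Subgroup (US K))) : y ∈ (sJ : Subgroup (US K)) := hy.1
theorem ZJ {y : US K} (hy : y ∈ (sZ : Subgroup (US K))) : y ∈ (sJ : Subgroup (US K)) := hy.1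
theorem ZY {y : US K} (hy : y ∈ (sZ : Subgroup (US K))) : y ∈ (sY : Subgroup (US K)) := ⟨hy.1, hy.2.1⟩

/-- the coordinates of `f Y` -/
def NN (hf : Au sJ f) : AddSubgroup (K × K × K) where
  carrier := {w | ∃ y ∈ (sY : Subgroup (US K)), w = ((f y).b, (f y).c, (f y).d)}
  zero_mem' := ⟨1, one_mem _, by rw [hf.one]; rfl⟩
  add_mem' := by
    rintro _ _ ⟨y, hy, rfl⟩ ⟨y', hy', rfl⟩
    refine ⟨y * y', mul_mem hy hy', ?_⟩
    rw [hf.mul _ (YJ hy) _ (YJ hy')]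
    simp [mem_sJ.1 (hf.mem _ (YJ hy))]
  neg_mem' := by
    rintro _ ⟨y, hy, rfl⟩
    refine ⟨y⁻¹, inv_mem hy, ?_⟩
    rw [hf.map_inv (YJ hy)]
    simp [mem_sJ.1 (hf.mem _ (YJ hy))]

theorem fa_c (hf : Fa u sJ f) (s : US K) : Fa u sJ fun x => s * f x * s⁻¹ := (Fa.conj u s (nm_J s)).comp hf

theorem np (h : Two p u sQ sJ) (hf : Fa u sJ f) (hg : Fa u sJ g) (e : ∀ a ∈ (sJ : Subgroup (US K)), f (g a) = a)
    (k : ¬ PZ f) {s : US K} (hs : s.a ≠ 0) : ¬ PZ fun x => g (s * f x * s⁻¹) := fun k' =>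
  k (pz_inv hg.au hf.au e (p0J h hg hs (hg.comp (fa_c hf s)) k' fun a ha => by rw [e a ha]))

theorem pK (a : K) : p • a = 0 := by rw [nsmul_eq_mul, CharP.cast_eq_zero, zero_mul]

theorem pF (a : Fx K) : p • a = 0 := Subtype.ext (pK (p := p) (a : K))

/-- the use of Chevalley-Warning -/
theorem exists_a (h : Two p u sQ sJ) (hf : Fa u sJ f) (k : ¬ PZ f) {z : US K} (hz : z ∈ (sZ : Subgroup (US K)))
    (h0 : f z ∈ (sZ : Subgroup (US K))) (h1 : z ≠ 1) (v : US K) :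
    ∃ a, a ≠ 0 ∧ ((0 : K), a * v.b, a * σ v.c + v.c * σ a + v.b * (a * σ a)) ∈ NN hf.au := by
  obtain ⟨ρ, hρ⟩ := exists_rho K
  let π := QuotientAddGroup.mk' (NN hf.au)
  have π0 : ∀ w, π w = 0 ↔ w ∈ NN hf.au := fun w => QuotientAddGroup.eq_zero_iff w
  let ψ : Fx K →+ _ := π.comp (((AddMonoidHom.inr K _).comp (AddMonoidHom.inr K K)).comp (Fx K).subtype)
  have eψ : ∀ d : Fx K, ψ d = π (0, 0, (d : K)) := fun _ => rfl
  have lt : Nat.card ψ.range < Bar.q K := by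
    rw [← card_Fx]
    refine lt_of_le_of_ne (Nat.card_le_card_of_surjective _ ψ.rangeRestrict_surjective) fun e => h1 ?_
    have i := ((Nat.bijective_iff_surjective_and_card _).2 ⟨ψ.rangeRestrict_surjective, e.symm⟩).1
    have e1 : (⟨(f z).d, (f z).hd⟩ : Fx K) = 0 := (injective_iff_map_eq_zero _).1 i _
      (Subtype.ext ((π0 _).2 ⟨z, ZY hz, by rw [h0.2.1, h0.2.2]; rfl⟩))
    refine hf.au.inj _ (ZJ hz) _ (one_mem _) ?_
    rw [hf.au.one]
    exact US.ext h0.1 h0.2.1 h0.2.2 (congrArg Subtype.val e1)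
  let l0 : K →+ K × K × K := AddMonoidHom.mk' (fun a => (0, a * v.b, a * σ v.c + v.c * σ a)) fun x y => by
    simp only [Prod.mk_add_mk, map_add, Prod.mk.injEq]
    refine ⟨by simp, ?_, ?_⟩ <;> ring
  have ml : ∀ a, (π.comp l0) a ∈ ψ.range := fun a => by
    obtain ⟨y, hy, w, hw, e⟩ := yz h hf k (y := Xc (a * v.b)) ⟨rfl, rfl⟩
    have a0 := mem_sJ.1 (hf.au.mem _ (YJ hy))
    have e1 := congrArg US.b e
    have e2 := congrArg US.c e
    have e3 := congrArg US.d e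
    simp only [Xc_b, Xc_c, Xc_d, mul_b, mul_c, mul_d, a0, hw.2.1, hw.2.2] at e1 e2 e3
    refine ⟨⟨a * σ v.c + v.c * σ a + w.d, show σ _ = _ by simp; ring⟩, ?_⟩
    rw [eψ, eq_comm, ← sub_eq_zero, AddMonoidHom.comp_apply, ← map_sub, π0]
    refine ⟨y, hy, ?_⟩
    simp only [l0, AddMonoidHom.mk'_apply, Prod.mk_sub_mk, Prod.mk.injEq]
    exact ⟨by linear_combination e1, by linear_combination e2, by linear_combination e3⟩
  obtain ⟨a, a0, e⟩ := cw1 (p := p) (A := K) (W := ψ.range) pK (by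
      rintro ⟨_, d, rfl⟩
      exact Subtype.ext (by
        show p • ψ d = 0
        rw [← map_nsmul, pF, map_zero]))
    ((bil ρ v.b).compr₂ ψ.rangeRestrict) ((π.comp l0).codRestrict _ ml)
    (by rw [card_K (K := K)]; exact Nat.pow_lt_pow_left lt two_ne_zero)
  refine ⟨a, a0, (π0 _).1 ?_⟩
  have e1 : ψ (ρ (v.b * (a * σ a))) + π (l0 a) = 0 := congrArg Subtype.val e
  rw [eψ, hρ _ (by simp [mul_comm]), ← map_add] at e1
  rw [← e1]
  congr 1
  simp only [l0, AddMonoidHom.mk'_apply, Prod.mk_add_mk, Prod.mk.injEq]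
  refine ⟨by simp, by simp, by ring⟩

end OppJ

open OppJ

theorem oppJ (h : Two p u sQ sJ) (hf : Fa u sJ f) (k : ¬ PZ f) {z : US K} (hz : z ∈ (sZ : Subgroup (US K))) (hb : (f z).b = 0) :
    z = 1 := by
  by_contra h1
  obtain ⟨z', hz', k1⟩ : ∃ z' ∈ (sZ : Subgroup (US K)), f z' ∉ (sZ : Subgroup (US K)) := by
    by_contra e
    exact k fun z' hz' => by_contra fun e' => e ⟨z', hz', e'⟩
  have va := mem_sJ.1 (hf.au.mem _ (ZJ hz'))
  have vb : (f z').b ≠ 0 := fun e => k1 ⟨va, e, zy h hf k hz' e⟩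
  obtain ⟨a, a0, y, hy, e⟩ := exists_a h hf k hz ⟨hf.au.mem _ (ZJ hz), hb, zy h hf k hz hb⟩ h1 (f z')
  obtain ⟨g, hg, e1, e2⟩ := hf.exists_inv
  simp only [Prod.mk.injEq] at e
  have ya := mem_sJ.1 (hf.au.mem _ (YJ hy))
  have e3 : Xa a * f z' * (Xa a)⁻¹ = f (y * z') := by
    obtain ⟨c1, c2, c3, c4⟩ := cj_J (Xa a) va
    rw [hf.au.mul _ (YJ hy) _ (ZJ hz')]
    refine US.ext ?_ ?_ ?_ ?_
    · rw [c1]; simp [va, ya]
    · rw [c2]; simp [← e.1]
    · rw [c3]; simp [← e.2.1, ya, add_comm]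
    · rw [c4]; simp [← e.2.2, ya]; ring
  have e4 : g (Xa a * f z' * (Xa a)⁻¹) = y * z' := by rw [e3, e1 _ (mul_mem (YJ hy) (ZJ hz'))]
  have e5 := zy h (hg.comp (fa_c hf (Xa a))) (np h hf hg e2 k (s := Xa a) a0) hz'
    (by rw [e4]; simp [hy.2, hz'.2.1])
  rw [e4] at e5
  have e6 : y.c = 0 := by simpa [hy.1, hz'.2.2] using e5
  exact mul_ne_zero a0 vb (e.2.1.trans (zy h hf k ⟨hy.1, hy.2, e6⟩ e.1.symm))

theorem oppJ_sur (h : Two p u sQ sJ) (hf : Fa u sJ f) (k : ¬ PZ f) {b : K} (hb : σ b = b) :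
    ∃ z ∈ (sZ : Subgroup (US K)), (f z).b = b := by
  have i : Function.Injective fun d : Fx K => (⟨(f (Xd d.1 d.2)).b, US.hb _⟩ : Fx K) := fun d d' e => by
    have m : ∀ d : Fx K, Xd d.1 d.2 ∈ (sZ : Subgroup (US K)) := fun _ => ⟨rfl, rfl, rfl⟩
    have e1 : (f (Xd d.1 d.2)).b = (f (Xd d'.1 d'.2)).b := congrArg Subtype.val e
    have e2 := oppJ h hf k (mul_mem (m d) (inv_mem (m d'))) (by
      rw [hf.au.mul _ (ZJ (m d)) _ (ZJ (inv_mem (m d'))), hf.au.map_inv (ZJ (m d'))]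
      simp [e1])
    exact Subtype.ext (congrArg US.d (mul_inv_eq_one.1 e2))
  obtain ⟨d, e⟩ := Finite.injective_iff_surjective.1 i ⟨b, hb⟩
  exact ⟨_, ⟨rfl, rfl, rfl⟩, congrArg Subtype.val e⟩

/-- two conjugate flags with a common incidence coincide -/
theorem meetJ (h : Two p u sQ sJ) (hf : Fa u sJ f) (hg : Fa u sJ g) {z y : US K} (hz : z ∈ (sZ : Subgroup (US K))) (h1 : z ≠ 1)
    (hy : y ∈ (sY : Subgroup (US K))) (e : f z = g y) : ∀ w ∈ (sZ : Subgroup (US K)), ∃ w' ∈ (sZ : Subgroup (US K)), f w = g w' := by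
  obtain ⟨g', hg', e1, e2⟩ := hg.exists_inv
  have k : PZ fun a => g' (f a) := by_contra fun k =>
    h1 (oppJ h (hg'.comp hf) k hz (by rw [e, e1 _ (YJ hy)]; exact hy.2))
  exact fun w hw => ⟨_, k w hw, (e2 _ (hf.au.mem _ (ZJ hw))).symm⟩

/-- `J = Z × f Y` -/
theorem exists_pi (h : Two p u sQ sJ) (hf : Fa u sJ f) (k : ¬ PZ f) : ∃ (ℓ m : K →+ K), (∀ c, σ (ℓ c) = ℓ c) ∧
    (∀ b, σ b = b → σ (m b) = m b) ∧ ∀ x ∈ (sJ : Subgroup (US K)), (∃ y ∈ (sY : Subgroup (US K)), f y = x) ↔ x.d + ℓ x.c + m x.b = 0 := by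
  obtain ⟨g, hg, e1, e2⟩ := hf.exists_inv
  obtain ⟨ρ, hρ⟩ := exists_rho K
  have kg : ¬ PZ g := fun e => k (pz_inv hg.au hf.au e2 e)
  have fa : ∀ y ∈ (sY : Subgroup (US K)), (f y).a = 0 := fun y hy => hf.au.mem _ (YJ hy)
  have U : ∀ y ∈ (sY : Subgroup (US K)), ∀ y' ∈ (sY : Subgroup (US K)), (f y).b = (f y').b → (f y).c = (f y').c →
      y = y' := fun y hy y' hy' a b => by
    have m := mul_mem hy (inv_mem hy')
    have e3 := oppJ h hg kg (z := f (y * y'⁻¹)) (by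
      rw [hf.au.mul _ (YJ hy) _ (YJ (inv_mem hy')), hf.au.map_inv (YJ hy')]
      simp [a, b, fa y hy, fa y' hy']) (by rw [e1 _ (YJ m)]; exact m.2)
    exact mul_inv_eq_one.1 (hf.au.inj _ (YJ m) _ (one_mem _) (e3.trans hf.au.one.symm))
  let X : Fx K × K → US K := fun w => ⟨0, 0, w.2, w.1.1, map_zero _, w.1.2⟩
  have m : ∀ w, X w ∈ (sY : Subgroup (US K)) := fun _ => ⟨rfl, rfl⟩
  have i : Function.Injective fun w => ((⟨(f (X w)).b, US.hb _⟩, (f (X w)).c) : Fx K × K) := fun w w' e => by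
    have e3 := U _ (m w) _ (m w') (congrArg (fun x => x.1.1) e) (congrArg Prod.snd e)
    exact Prod.ext (Subtype.ext (congrArg US.d e3)) (congrArg US.c e3)
  have s : ∀ w : Fx K × K, ∃ y ∈ (sY : Subgroup (US K)), (f y).b = w.1 ∧ (f y).c = w.2 := fun w =>
    let ⟨w', e⟩ := Finite.injective_iff_surjective.1 i w
    ⟨_, m w', congrArg (fun x => x.1.1) e, congrArg Prod.snd e⟩
  choose Y y1 y2 y3 using s
  let lam : Fx K × K →+ K := AddMonoidHom.mk' (fun w => -(f (Y w)).d) fun w w' => by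
    have e3 := hf.au.mul _ (YJ (y1 w)) _ (YJ (y1 w'))
    rw [U _ (y1 (w + w')) _ (mul_mem (y1 w) (y1 w')) (by simp [e3, y2]) (by simp [e3, y3, fa _ (y1 w)]), e3]
    simp [fa _ (y1 w)]; ring
  have el : ∀ w, lam w = -(f (Y w)).d := fun _ => rfl
  refine ⟨lam.comp (AddMonoidHom.inr _ _), (lam.comp (AddMonoidHom.inl _ _)).comp ρ, fun c => by simp [el],
    fun b _ => by simp [el], fun x hx => ?_⟩
  have e3 : x.d + (lam.comp (AddMonoidHom.inr _ _)) x.c + ((lam.comp (AddMonoidHom.inl _ _)).comp ρ) x.b =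
      x.d - (f (Y (ρ x.b, x.c))).d := by
    rw [sub_eq_add_neg, ← el, add_assoc]
    simp only [AddMonoidHom.comp_apply]
    rw [← map_add]
    simp
  have e4 : (f (Y (ρ x.b, x.c))).b = x.b := (y2 _).trans (hρ _ x.hb)
  rw [e3, sub_eq_zero]
  refine ⟨?_, fun e => ⟨_, y1 _, US.ext ((fa _ (y1 _)).trans (mem_sJ.1 hx).symm) e4 (y3 _) e.symm⟩⟩
  rintro ⟨y, hy, rfl⟩
  rw [U _ (y1 _) _ hy e4 (y3 _)]

theorem t2J (h : Two p u sQ sJ) : T2J u := fun f g hf hg kf kg => by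
  obtain ⟨ℓ, m, l1, m1, e⟩ := exists_pi h hg kg
  obtain ⟨z, hz, b1⟩ := oppJ_sur h hf kf (b := 1) (map_one _)
  obtain ⟨ρ, hρ⟩ := exists_rho K
  have va := mem_sJ.1 (hf.au.mem _ (ZJ hz))
  let l : K →+ Fx K := AddMonoidHom.mk' (fun a => ⟨a * σ (f z).c + (f z).c * σ a + ℓ a, show σ _ = _ by
    simp [l1]; ring⟩) fun x y => Subtype.ext (by simp; ring)
  have hN : ∀ a : K, (bil ρ 1 a a : K) = a * σ a := fun a => by
    rw [bil_apply, one_mul, hρ _ (by simp [mul_comm])]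
  obtain ⟨a, ha⟩ := cw2 (p := p) (A := K) (W := Fx K) pK pF (bil ρ 1) l
    ⟨(f z).d + ℓ (f z).c + m 1, show σ _ = _ by simp [l1, m1 1 (map_one _)]⟩ (by rw [card_K (K := K), card_Fx])
    fun a e => U5F.nrm0 ((hN a).symm.trans (congrArg Subtype.val e))
  have e1 : (bil ρ 1 a a : K) + (a * σ (f z).c + (f z).c * σ a + ℓ a) + ((f z).d + ℓ (f z).c + m 1) = 0 :=
    congrArg Subtype.val ha
  obtain ⟨c1, c2, c3, c4⟩ := cj_J (Xa a) va
  obtain ⟨y, hy, e2⟩ := (e (Xa a * f z * (Xa a)⁻¹) c1).2 (by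
    rw [c2, c3, c4, b1, map_add]
    simp only [Xa_a, mul_one, one_mul]
    linear_combination e1 - hN a)
  refine ⟨a, meetJ h (fa_c hf (Xa a)) hg hz ?_ hy e2.symm⟩
  rintro rfl
  rw [hf.au.one] at b1
  exact zero_ne_one b1

end Cfsg.Agent.U4F
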