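import Cfsg.Agent.U4F.OppJ

/-! Project U4F: ShT.  See `notes/U4F.md`. -/

set_option autoImplicit false
set_option linter.unusedSectionVars false

namespace Cfsg.Agent.U4F

open U5F (Bar σ σσ card_K card_fix exists_q map_σ TF θT)
open US FK
open RFS (Au)
open scoped commutatorElement

variable {K : Type*} [Field K] [Bar K] {G : Type*} [Group G] [Finite G] {p : ℕ} [Fact p.Prime] [CharP K p]
  {u : US K →* G} {f g F : US K → US K} {E : Subgroup (US K)} {L : Subgroup G}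

namespace ShT

/-- the central automorphism given by `δ` -/
def be (δ : K →+ K) (h : ∀ b, σ b = b → σ (δ b) = δ b) : US K ≃* US K where
  toFun x := ⟨x.a, x.b, x.c, x.d + δ x.b, x.hb, by rw [map_add, x.hd, h _ x.hb]⟩
  invFun x := ⟨x.a, x.b, x.c, x.d - δ x.b, x.hb, by rw [map_sub, x.hd, h _ x.hb]⟩
  left_inv x := by ext <;> simp
  right_inv x := by ext <;> simp
  map_mul' x y := by ext <;> simp; ring

theorem be_apply (δ : K →+ K) (h) (x : US K) :
    be δ h x = ⟨x.a, x.b, x.c, x.d + δ x.b, x.hb, by rw [map_add, x.hd, h _ x.hb]⟩ := rfl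

theorem be_Y (δ : K →+ K) (h) {x : US K} (hx : x.b = 0) : be δ h x = x := by
  ext <;> simp [be_apply, hx]

theorem au_tf {r t : K} (hr : r ≠ 0) (ht : t ≠ 0) (φ : K ≃+* K) : Au ⊤ fun a : US K => tor r t (fld φ a) :=
  (au_tor hr ht).comp (Au.equiv (fldA φ))

theorem np_mu : ¬ PZ (mu : US K → US K) := fun k => one_ne_zero (α := K) (k (Xd 1 (map_one _)) (by simp)).2.1

/-- the Weyl elements -/
def w (l : K) (x : US K) : US K :=
  ⟨0, x.d / (l * σ l), -(l / σ l) * σ x.c, x.b * (l * σ l), by simp [mul_comm], by simp [mul_comm]⟩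

theorem in_w (h : LowJ u) {l : K} (hl : l ≠ 0) : In u sJ (w l) := by
  have h2 : σ l ≠ 0 := by simpa using hl
  refine ((In.conj u sJ (Xa l)).comp ((h l⁻¹).comp (In.conj u sJ (Xa l)) (nm_J _)) fun a _ => mu_mem _).congr
    fun a ha => ?_
  have e := mem_sJ.1 ha
  ext <;> simp [w, e] <;> field_simp <;> ring

theorem comm {δ : K →+ K} (c : Cx p u) (s : Sh u f δ) {r t : K} (hr : r ≠ 0) (ht : t ≠ 0) (φ : K ≃+* K)
    (h : In u ⊤ fun a => tor r t (fld φ a)) {b : K} (hb : σ b = b) :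
    δ (t * σ t * φ b) = r * σ r * (t * σ t) * φ (δ b) := by
  have h2 : σ t ≠ 0 := by simpa using ht
  have h1 : Fa u sJ fun a => tor r t (fld φ a) :=
    Fa.res ⟨au_tf hr ht φ, h⟩ le_top fun x hx => by simp [mem_sJ.1 hx]
  obtain ⟨e, he⟩ := t2J c.two _ _ (h1.comp s.fa) s.fa (fun k => s.np fun z hz => by
    simpa [hr, ht, h2] using k z hz) s.np
  have ZY : ∀ z ∈ (sZ : Subgroup (US K)), z ∈ (sY : Subgroup (US K)) := fun z hz => ⟨hz.1, hz.2.1⟩
  have fa : ∀ z ∈ (sZ : Subgroup (US K)), (f z).a = 0 := fun z hz => s.fa.au.mem z hz.1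
  have e0 : e = 0 := by
    obtain ⟨z, hz, e1⟩ := oppJ_sur c.two s.fa s.np (b := 1) (map_one _)
    obtain ⟨z', hz', e2⟩ := he z hz
    have := congrArg US.c e2
    simpa [s.z z hz, s.z z' hz', fa z hz, e1, ht, h2] using this
  obtain ⟨z, hz, rfl⟩ := oppJ_sur c.two s.fa s.np hb
  obtain ⟨z', hz', e2⟩ := he z hz
  rw [e0, show (Xa 0 : US K) = 1 from rfl, one_mul, inv_one, mul_one] at e2
  have := s.y z' (ZY z' hz')
  rw [← e2] at this
  simpa [s.y z (ZY z hz)] using this.symm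

end ShT

open ShT

/-- the central automorphism that removes `δ` -/
theorem Sh.tw {δ : K →+ K} (c : Cx p u) (s : Sh u f δ) :
    ∃ (β : US K ≃* US K) (f' : US K → US K), Cx p (u.comp β.toMonoidHom) ∧ Sh (u.comp β.toMonoidHom) f' 0 := by
  refine ⟨be δ s.fix, fun a => (be δ s.fix).symm (f (be δ s.fix a)), ⟨two_tw c.two _, fun F hF => ?_⟩,
    ⟨⟨((Au.equiv (be δ s.fix).symm).res le_top fun _ h => h).comp (s.fa.au.comp
      ((Au.equiv (be δ s.fix)).res le_top fun _ h => h)), s.fa.ind.tw _ fun _ h => h⟩,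
      fun k => s.np fun z hz => ?_, fun _ _ => map_zero _, fun z hz => ?_, fun y hy => ?_⟩⟩
  · have h1 : Fa u ⊤ fun a => be δ s.fix (F ((be δ s.fix).symm a)) :=
      ⟨(Au.equiv _).comp (hF.au.comp (Au.equiv _)), hF.ind.imp fun g k a _ => by
        simpa using k ((be δ s.fix).symm a) trivial⟩
    obtain ⟨x, r, t, φ, hr, ht, e⟩ := c.std _ h1
    have h2 : In u ⊤ fun a => tor r t (fld φ a) :=
      ((In.conj u ⊤ x⁻¹).comp h1.ind fun _ _ => trivial).congr fun a _ => by rw [e]; group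
    refine ⟨(be δ s.fix).symm x, r, t, φ, hr, ht, fun a => (be δ s.fix).injective ?_⟩
    have := e (be δ s.fix a)
    rw [MulEquiv.symm_apply_apply] at this
    rw [this, map_mul, map_mul, map_inv, MulEquiv.apply_symm_apply]
    congr 2
    ext <;> simp [be_apply, comm c s hr ht φ h2 a.hb, mul_add]
  · have : (be δ s.fix).symm (f (be δ s.fix z)) ∈ (sZ : Subgroup (US K)) := k z hz
    rwa [be_Y δ _ hz.2.1] at this
  · rw [be_Y δ _ hz.2.1]
    exact s.z z hz
  · rw [be_Y δ _ hy.2]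
    exact sub_eq_zero.2 (s.y y hy)

theorem LowJ.mu (h : LowJ u) : In u sJ mu :=
  (in_w h one_ne_zero).congr fun a _ => by ext <;> simp [w]

theorem Cx.torA (c : Cx p u) (h : LowJ u) : TorA u := fun l hl => by
  have h2 : σ l ≠ 0 := by simpa using hl
  have h1 : Fa u sJ (tor (l ^ 2) l⁻¹) :=
    ⟨(au_tor (pow_ne_zero 2 hl) (inv_ne_zero hl)).res le_top fun x hx => by simp [mem_sJ.1 hx],
      ((in_w h hl).comp h.mu fun a _ => mu_mem a).congr fun a ha => by
        ext <;> simp [w, mem_sJ.1 ha, -mul_eq_mul_right_iff] <;> field_simp⟩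
  obtain ⟨s, r, t, φ, -, ht, h3, e⟩ := c.decJ h1 fun z hz => by simp [hz.1, hz.2.1, hz.2.2]
  have e1 := e (Xb 1 (map_one _)) rfl
  have b1 : l⁻¹ * σ l⁻¹ = t * σ t := by simpa using congrArg US.b e1
  have n0 : t * σ t ≠ 0 := mul_ne_zero ht (by simpa using ht)
  have e2 : ∀ x, l ^ 2 * x = r * φ x := fun x => by
    have := congrArg US.c (e (Xc x) rfl)
    rw [cj_c] at this
    simp only [tor_c, tor_b, tor_a, fld_a, fld_b, fld_c, Xc_a, Xc_b, Xc_c, map_zero, mul_zero, zero_mul, add_zero,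
      sub_zero, b1] at this
    exact mul_left_cancel₀ n0 (by linear_combination this)
  have e3 : l ^ 2 = r := by simpa using e2 1
  have e4 : ∀ x, φ x = x := fun x => (mul_left_cancel₀ (pow_ne_zero 2 hl) (e3 ▸ e2 x)).symm
  refine h3.congr fun a _ => ?_
  ext <;> simp only [tor_a, tor_b, tor_c, tor_d, fld_a, fld_b, fld_c, fld_d, e4, b1, e3]

theorem uniqJ {G' : Type*} [Group G'] {u' : US K →* G'} (h : Two p u sQ sJ) (m : In u sJ mu) (m' : In u' sJ mu)
    (h0 : ∀ F, Fa u ⊤ F → In u' ⊤ F) (hf : Fa u sJ f) : In u' sJ f := by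
  have pz : ∀ g, Fa u sJ g → PZ g → In u' sJ g := fun g hg k =>
    let ⟨F, h1, h2⟩ := extJ h hg k
    ((h0 F h1).mono le_top).congr h2
  by_cases k : PZ f
  · exact pz f hf k
  obtain ⟨t, e⟩ := t2J h f mu hf ⟨au_mu, m⟩ k np_mu
  have h1 := (Fa.conj u (Xa t) (nm_J _)).comp hf
  have h2 := pz _ (Fa.comp ⟨au_mu, m⟩ h1) fun z hz => by
    obtain ⟨z', hz', e'⟩ := e z hz
    rwa [e', mu_mu hz'.1]
  refine ((In.conj u' sJ (Xa t)⁻¹).comp (m'.comp h2 fun a _ => mu_mem _) fun a _ => mu_mem _).congr fun a ha => ?_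
  rw [mu_mu (h1.au.mem a ha)]
  group

end Cfsg.Agent.U4F
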