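import Cfsg.Agent.U4F.Ext
import Cfsg.Agent.FK.Fus
import Mathlib.GroupTheory.FiniteAbelian.Duality
import Mathlib.RingTheory.RootsOfUnity.AlgebraicallyClosed
import Mathlib.Analysis.Complex.Polynomial.Basic

/-! Project U4F: Syl.  See `notes/U4F.md`. -/

set_option autoImplicit false
set_option linter.unusedSectionVars false

namespace Cfsg.Agent.U4F

open U5F (Bar σ σσ card_K card_fix exists_q map_σ TF θT)
open US FK
open RFS (Au)
open scoped commutatorElement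

variable {K : Type*} [Field K] [Bar K] {G : Type*} [Group G] [Finite G] {p : ℕ} [Fact p.Prime] [CharP K p]
  {u : US K →* G} {f g F : US K → US K} {E : Subgroup (US K)} {L : Subgroup G}

namespace Syl

open SR3 (nm ce)

/-- Sylow's theorem in `M` -/
theorem star (h : Two p u sQ sJ) {x : G} (hx : x ∈ nm (sJ.map u)) {M : Subgroup G} (h1 : M ≤ nm (sJ.map u))
    (h2 : u.range ≤ M) {a : K} (ha : a ≠ 0) (h3 : x⁻¹ * u (Xa a) * x ∈ M) :
    ∃ m ∈ M, ∃ f₁, Fa u sJ f₁ ∧ PZ f₁ ∧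
      ∀ j ∈ (sJ : Subgroup (US K)), x * m⁻¹ * u j * (x * m⁻¹)⁻¹ = u (f₁ j) := by
  have l := h.sat.loc (nm_J (K := K))
  obtain ⟨m, hm, e⟩ := SR3.syl_conj (K := ce (sJ.map u)) (P := Subgroup.zpowers (x⁻¹ * u (Xa a) * x)) l.pg l.norm
    l.syl le_rfl (fun _ => SR3.nm_ce) h2 h1 (Subgroup.zpowers_le.2 h3) (by
      rintro _ ⟨n, rfl⟩
      obtain ⟨k, hk⟩ := h.sat.pg (Xa a ^ n)
      refine ⟨k, ?_⟩
      have : (x⁻¹ * u (Xa a) * x) ^ n = x⁻¹ * u (Xa a ^ n) * x⁻¹⁻¹ := by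
        rw [map_zpow, ← conj_zpow, inv_inv]
      simp only [this, conj_pow, ← map_pow, hk]
      simp)
  rw [inf_eq_left.2 (SR3.ce_le_nm le_rfl)] at e
  obtain ⟨_, ⟨s, rfl⟩, c, hc, e'⟩ := (SR3.mem_sup_of_nm fun _ hn => SR3.nm_ce (l.norm hn)).1
    (e (SR3.conj_mem_cj m (Subgroup.mem_zpowers _)))
  obtain ⟨f₁, hf₁, k⟩ := Fa.of_nm h.sat.inj (mul_mem hx (inv_mem (h1 hm)))
  have key : ∀ j ∈ (sJ : Subgroup (US K)), f₁ (s * j * s⁻¹) = Xa a * f₁ j * (Xa a)⁻¹ := fun j hj => h.sat.inj (by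
    have c1 : c * u j * c⁻¹ = u j := by rw [← hc _ ⟨j, hj, rfl⟩]; group
    rw [← k _ (nm_J s j hj), map_mul, map_mul, map_mul, map_mul, ← k j hj, map_inv, map_inv]
    calc x * m⁻¹ * (u s * u j * (u s)⁻¹) * (x * m⁻¹)⁻¹
        = x * m⁻¹ * (u s * (c * u j * c⁻¹) * (u s)⁻¹) * (x * m⁻¹)⁻¹ := by rw [c1]
      _ = x * m⁻¹ * (u s * c * u j * (u s * c)⁻¹) * (x * m⁻¹)⁻¹ := by group
      _ = _ := by rw [e']; group)
  refine ⟨m, hm, f₁, hf₁, p0J h hf₁ (s := s) (fun s0 => ha ?_) (Fa.conj u (Xa a) (nm_J _)) (nm_Z _) key, k⟩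
  refine cz_Y (x := Xa a) fun y hy => ?_
  obtain ⟨j, hj, rfl⟩ := hf₁.au.sur y hy.1
  have := key j hj
  rw [m_J s0 hj, mul_inv_cancel_right] at this
  exact mul_inv_eq_iff_eq_mul.1 this.symm

/-- the elements normalising `E` and acting trivially on `E / Y` -/
def Tv (E Y : Subgroup G) : Subgroup G where
  carrier := {n | n ∈ nm E ∧ ∀ x ∈ E, n * x * n⁻¹ * x⁻¹ ∈ Y}
  one_mem' := ⟨one_mem _, fun x _ => by simp⟩
  mul_mem' := fun {a b} ha hb => ⟨mul_mem ha.1 hb.1, fun x hx => by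
    have := mul_mem (ha.2 _ (SR3.conj_mem hb.1 hx)) (hb.2 x hx)
    convert this using 1
    group⟩
  inv_mem' := fun {a} ha => ⟨inv_mem ha.1, fun x hx => by
    have := inv_mem (ha.2 _ (SR3.conj_mem (inv_mem ha.1) hx))
    convert this using 1
    group⟩

theorem line {ψ : K → ℂˣ} (h : ∀ x y, ψ (x + y) = ψ x * ψ y) : ∃ a : K, a ≠ 0 ∧ ∀ b, σ b = b → ψ (a * b) = 1 := by
  let A : AddSubgroup K :=
    { carrier := {x | σ x = x}
      zero_mem' := map_zero _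
      add_mem' := fun {x y} (hx : _ = _) (hy : _ = _) => show _ = _ by rw [map_add, hx, hy]
      neg_mem' := fun {x} (hx : _ = _) => show _ = _ by rw [map_neg, hx] }
  let Φ : K → (Multiplicative A →* ℂˣ) := fun a => MonoidHom.mk' (fun b => ψ (a * (b.toAdd : A))) fun b b' => by
    rw [← h, ← mul_add]; rfl
  have c1 : Nat.card (Multiplicative A →* ℂˣ) = Bar.q K :=
    (CommGroup.card_monoidHom_of_hasEnoughRootsOfUnity _ ℂ).trans card_fix
  have q2 := U5F.two_le_q (K := K)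
  have : Finite (Multiplicative A →* ℂˣ) := Nat.finite_of_card_ne_zero (by omega)
  have : ¬ Function.Injective Φ := fun e => by
    have := Nat.card_le_card_of_injective Φ e
    rw [c1, card_K] at this
    nlinarith
  obtain ⟨a, a', e, ne⟩ := Function.not_injective_iff.1 this
  refine ⟨a - a', sub_ne_zero.2 ne, fun b hb => ?_⟩
  have e1 : ψ (a * b) = ψ (a' * b) := DFunLike.congr_fun e (Multiplicative.ofAdd ⟨b, hb⟩)
  have e2 := h ((a - a') * b) (a' * b)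
  rw [show (a - a') * b + a' * b = a * b by ring, e1] at e2
  exact mul_eq_right.1 e2.symm

/-- a hyperplane of `J` -/
theorem hyp {H : Subgroup (US K)} {y : US K} (hy : y ∈ (sJ : Subgroup (US K))) (hH : y ∉ H) :
    ∃ (W : Subgroup (US K)) (a : K), H ⊓ sJ ≤ W ∧ y ∉ W ∧ a ≠ 0 ∧ ∀ b, σ b = b → Xc (a * b) ∈ W := by
  let _ : CommGroup (sJ : Subgroup (US K)) :=
    { (inferInstance : Group (sJ : Subgroup (US K))) with mul_comm := fun x y => Subtype.ext (m_J x.2 y.2) }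
  have := mt (CommGroup.forall_monoidHom_apply_eq_one_iff ℂ (H.subgroupOf sJ) ⟨y, hy⟩).1 hH
  push Not at this
  obtain ⟨χ, h1, h2⟩ := this
  obtain ⟨a, ha, k⟩ := line (K := K) (ψ := fun c => χ ⟨Xc c, rfl⟩) fun x y => by
    rw [← map_mul]; congr 1; ext <;> simp
  refine ⟨χ.ker.map sJ.subtype, a, fun x hx => ⟨⟨x, hx.2⟩, h1 _ hx.1, rfl⟩, ?_, ha,
    fun b hb => ⟨⟨_, rfl⟩, k b hb, rfl⟩⟩
  rintro ⟨x, hx, rfl⟩
  exact h2 hx

end Syl

theorem zy (h : Two p u sQ sJ) (hf : Fa u sJ f) (k : ¬ PZ f) {z : US K} (hz : z ∈ (sZ : Subgroup (US K))) (hb : (f z).b = 0) :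
    (f z).c = 0 := by
  by_contra hc
  have _ := k
  obtain ⟨x, hx⟩ := hf.ind
  obtain ⟨ε, e0, e1⟩ := U5F.exists_skew K
  have hn := nm_of_ind hf.au.mem hx
  have l := h.sat.loc (nm_J (K := K))
  have a0 : (f z).a = 0 := hf.au.mem z hz.1
  have cm : Xa (ε * (f z).c) * f z = f z * Xa (ε * (f z).c) := comm_iff.2 (by
    simp only [Xa_a, Xa_b, Xa_c, a0, hb, map_mul, e1, map_zero]
    constructor <;> ring)
  obtain ⟨m, hm, f₁, -, h1, h2⟩ := Syl.star h hn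
    (M := SR3.nm (sJ.map u) ⊓ Subgroup.centralizer {u z}) inf_le_left
    (le_inf l.norm (by
      rintro _ ⟨s, rfl⟩
      rw [Subgroup.mem_centralizer_singleton_iff, ← map_mul, ← map_mul, m_Z hz]))
    (mul_ne_zero e0 hc) (Subgroup.mem_inf.2 ⟨mul_mem (mul_mem (inv_mem hn) (l.norm ⟨_, rfl⟩)) hn, by
      rw [Subgroup.mem_centralizer_singleton_iff]
      have e : u z = x⁻¹ * u (f z) * x := by rw [← hx z hz.1]; group
      rw [e]
      calc _ = x⁻¹ * u (Xa (ε * (f z).c) * f z) * x := by rw [map_mul u]; group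
        _ = _ := by rw [cm, map_mul u]; group⟩)
  have e1 : m⁻¹ * u z * m = u z := by
    rw [mul_assoc, ← Subgroup.mem_centralizer_singleton_iff.1 hm.2]; group
  have e2 : f₁ z = f z := h.sat.inj (by
    rw [← h2 z hz.1, ← hx z hz.1]
    calc _ = x * (m⁻¹ * u z * m) * x⁻¹ := by group
      _ = _ := by rw [e1])
  exact hc (e2 ▸ (h1 z hz).2.2)

theorem yz (h : Two p u sQ sJ) (hf : Fa u sJ f) (k : ¬ PZ f) {y : US K} (hy : y ∈ (sY : Subgroup (US K))) :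
    ∃ y' ∈ (sY : Subgroup (US K)), ∃ z ∈ (sZ : Subgroup (US K)), y = f y' * z := by
  by_contra hc
  have _ := k
  obtain ⟨x, hx⟩ := hf.ind
  have hn := nm_of_ind hf.au.mem hx
  have l := h.sat.loc (nm_J (K := K))
  let H : Subgroup (US K) :=
    { carrier := {w | ∃ y' ∈ (sY : Subgroup (US K)), ∃ z ∈ (sZ : Subgroup (US K)), w = f y' * z}
      one_mem' := ⟨1, one_mem _, 1, one_mem _, by rw [hf.au.one, mul_one]⟩
      mul_mem' := by
        rintro _ _ ⟨a, ha, b, hb, rfl⟩ ⟨a', ha', b', hb', rfl⟩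
        refine ⟨_, mul_mem ha ha', _, mul_mem hb hb', ?_⟩
        rw [hf.au.mul _ ha.1 _ ha'.1, mul_assoc, ← mul_assoc b, m_Z hb]
        simp only [mul_assoc]
      inv_mem' := by
        rintro _ ⟨a, ha, b, hb, rfl⟩
        exact ⟨_, inv_mem ha, _, inv_mem hb, by rw [hf.au.map_inv ha.1, mul_inv_rev, m_Z (inv_mem hb)]⟩ }
  obtain ⟨W, a, w1, w2, ha, w3⟩ := Syl.hyp (H := H) hy.1 hc
  have wY : ∀ j ∈ (sY : Subgroup (US K)), f j ∈ W := fun j hj =>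
    w1 ⟨⟨j, hj, 1, one_mem _, (mul_one _).symm⟩, hf.au.mem j hj.1⟩
  have wZ : ∀ j ∈ (sZ : Subgroup (US K)), j ∈ W := fun j hj =>
    w1 ⟨⟨1, one_mem _, j, hj, by rw [hf.au.one, one_mul]⟩, hj.1⟩
  obtain ⟨m, hm, f₁, hf₁, h1, h2⟩ := Syl.star h hn
    (M := Syl.Tv (sJ.map u) (SR3.cj x⁻¹ (W.map u))) (fun _ e => e.1)
    (by
      rintro _ ⟨s, rfl⟩
      refine ⟨l.norm ⟨s, rfl⟩, ?_⟩
      rintro _ ⟨j, -, rfl⟩
      have := hx _ (c_top s j).1
      rw [commutatorElement_def, map_mul, map_mul, map_mul, map_inv, map_inv] at this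
      rw [SR3.mem_cj, inv_inv, this]
      exact ⟨_, wY _ (c_top s j), rfl⟩)
    ha ⟨mul_mem (mul_mem (inv_mem hn) (l.norm ⟨_, rfl⟩)) hn, by
      rintro _ ⟨j, hj, rfl⟩
      have a0 : (f j).a = 0 := hf.au.mem j hj
      rw [SR3.mem_cj, inv_inv]
      refine ⟨⁅Xa a, f j⁆, ?_, ?_⟩
      · have := mul_mem (w3 _ (f j).hb) (wZ ((Xc (a * (f j).b))⁻¹ * ⁅Xa a, f j⁆) (by
          simp [comm_a, comm_b, comm_c, a0]))
        rwa [mul_inv_cancel_left] at this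
      · rw [commutatorElement_def, map_mul, map_mul, map_mul, map_inv, map_inv, ← hx j hj]
        group⟩
  obtain ⟨y₁, hy₁, e⟩ := (hf₁.au.res (B := sY) (fun _ e => e.1) (pz_of_ext (extJ h hf₁ h1)).2).sur y hy
  have := (inv_mem hm).2 _ ⟨y₁, hy₁.1, rfl⟩
  rw [SR3.mem_cj, inv_inv] at this
  obtain ⟨w, hw, e'⟩ := this
  refine w2 ?_
  have e2 : y = w * f y₁ := h.sat.inj (by
    rw [map_mul, e', ← hx y₁ hy₁.1, ← e, ← h2 y₁ hy₁.1]
    group)
  rw [e2]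
  exact mul_mem hw (wY y₁ hy₁)

end Cfsg.Agent.U4F
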